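import Cfsg.Agent.OddOrder.BG10.SigmaTrans
import Cfsg.Agent.OddOrder.BG4.Fitting
import Cfsg.Agent.OddOrder.Sigma.Basic
import Cfsg.Agent.Fusion.Basic
import Cfsg.Agent.H48.Qd

/-!
BG 10.2: `M_α` and `M_σ` are Hall subgroups of `M` and of `G`, `M_σ ≤ M'`, `M_σ ≠ 1`.
-/

set_option autoImplicit false

namespace Cfsg.Agent.OddOrder.BG10

open Subgroup H40
open scoped commutatorElement

/-- BG 4.20 (a) from the ranks of the `O_r`. -/
theorem commutator_le_fitting {X : Type*} [Group X] [Finite X] [Group.IsSolvable X]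
    (hodd : Odd (Nat.card X)) (hrk : ∀ r : ℕ, r.Prime → Cfsg.PRankLE r 2 (Cfsg.pCore r X)) :
    commutator X ≤ Cfsg.fittingSubgroup X := by
  refine BG4.commutator_le_fitting_of_action fun r hrp g hg => ?_
  have : Fact r.Prime := ⟨hrp⟩
  by_cases hbot : Cfsg.pCore r X = ⊥
  · exact ⟨0, mem_centralizer_iff.mpr fun y hy => by
      rw [hbot] at hy
      rw [mem_bot.mp hy, one_mul, mul_one]⟩
  have hr2 : r ≠ 2 := BG4.ne_two_of_dvd_of_odd hodd
    ((BG4.dvd_card_pCore hbot).trans (card_subgroup_dvd_card _))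
  have hRn : (Cfsg.pCore r X).Normal := pCore_normal r X
  refine BG4.exists_pow_mem_centralizer_of_rank_two hr2 Cores.pCore_isPGroup (hrk r hrp)
    (normalizer_eq_top (H := Cfsg.pCore r X)).ge (inferInstance : Group.IsSolvable (⊤ : Subgroup X))
    (by rwa [card_top]) ?_
  rwa [← commutator_def]

/-- A `p`-subgroup inside the Fitting subgroup is inside `O_p`. -/
theorem le_pCore_of_le_fitting {X : Type*} [Group X] [Finite X] {p : ℕ} [Fact p.Prime] {P : Subgroup X}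
    (hP : IsPGroup p P) (h : P ≤ Cfsg.fittingSubgroup X) : P ≤ Cfsg.pCore p X := by
  refine Cores.le_pCore_of_le_sup hP (h.trans ?_)
  rw [Cores.iSup_pCore_eq_fittingSubgroup]
  exact Cores.iSup_pCore_le_sup p

variable {G : Type*} [Group G] [Finite G]

/-- `α(M) ⊆ σ(M)`. -/
theorem alpha_subset_sigma (hG : Cfsg.IsMinSimpleOddOrder G) {M : Subgroup G} (hM : IsCoatom M) :
    Cfsg.alpha M ⊆ Cfsg.sigma M := by
  rintro p ⟨hp, hr⟩
  haveI := Fact.mk hp
  obtain ⟨E, hEM, hEc, hEe, hE⟩ := H41.exists_elementary_of_not_pRankLE hr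
  obtain ⟨P, hP, hEP⟩ := BG11.exists_sylowOf_ge' (p := p) (IsPGroup.of_card hE : IsPGroup p E) hEM
  refine BG11.mem_sigma_of_normalizer_le ((dvd_pow_self p (by norm_num : 3 ≠ 0)).trans
    (hE ▸ card_dvd_of_le hEM)) hP ?_
  have hPtop : P ≠ ⊤ := H41.ne_top_of_isPGroup hG.2 hP.2.1
  have hP0 : P ≠ ⊥ := BG11.sylowOf_ne_bot hP ((dvd_pow_self p (by norm_num : 3 ≠ 0)).trans
    (hE ▸ card_dvd_of_le hEM))
  exact BG11.le_of_inUniqueMaximal (H41.inUniqueMaximal_elementary hG hEc hEe hE.ge) hM hEM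
    (BG11.normalizer_ne_top' hG hP0 hPtop) (hEP.trans le_normalizer)

theorem pRankLE_two_of_not_alpha {M : Subgroup G} {p : ℕ} (hp : p.Prime) (h : p ∉ Cfsg.alpha M) :
    Cfsg.PRankLE p 2 M :=
  by_contra fun h' => h ⟨hp, h'⟩

omit [Finite G] in
theorem commutator_eq_top (hG : Cfsg.IsMinSimpleOddOrder G) : commutator G = ⊤ := by
  haveI := hG.2.1
  rcases (inferInstance : (commutator G).Normal).eq_bot_or_eq_top with h | h
  · exact absurd ⟨⟨fun a b => commutatorElement_eq_one_iff_mul_comm.mp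
      (mem_bot.mp (h ▸ commutator_mem_commutator (mem_top a) (mem_top b) : ⁅a, b⁆ ∈ (⊥ : Subgroup G)))⟩⟩
      hG.2.2.1
  · exact h

/-- For `p ∈ σ(M)` a Sylow `p`-subgroup of `M` lies in `M'`. -/
theorem sylow_le_derived (hG : Cfsg.IsMinSimpleOddOrder G) {M : Subgroup G} (hM : IsCoatom M)
    {p : ℕ} [Fact p.Prime] (hp : p ∈ Cfsg.sigma M) (P : Sylow p M) :
    (P : Subgroup M) ≤ commutator M := by
  obtain ⟨S, hS⟩ := OddOrder.exists_sylow_of_mem_sigma hp P
  have hSM : (S : Subgroup G) ≤ M := hS.le.trans (map_subtype_le _)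
  have hctrl : Fusion.ControlsElementFusion M (S : Subgroup G) := by
    intro x hx g hg
    by_cases hx1 : x = 1
    · exact ⟨1, one_mem _, by rw [hx1]; group⟩
    obtain ⟨m, hm, c, hc, rfl⟩ := (sigma_trans' hG hM hp (S.isPGroup'.to_le (zpowers_le.mpr hx))
      (by rwa [ne_eq, zpowers_eq_bot]) ((zpowers_le.mpr hx).trans hSM)).1 g (by
        rw [cj, MonoidHom.map_zpowers, zpowers_le]
        exact hSM hg)
    refine ⟨m, hm, ?_⟩
    calc m * x * m⁻¹ = m * (x * c) * c⁻¹ * m⁻¹ := by group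
      _ = m * (c * x) * c⁻¹ * m⁻¹ := by rw [mem_centralizer_iff.mp hc x (mem_zpowers x)]
      _ = m * c * x * (m * c)⁻¹ := by group
  have h := Fusion.commutator_inf_eq_of_controls S hSM hctrl
  rw [commutator_eq_top hG, top_inf_eq] at h
  intro x hx
  have h1 : (x : G) ∈ ⁅M, M⁆ := (h.le (hS.ge ⟨x, hx, rfl⟩)).1
  rw [← map_subtype_commutator] at h1
  obtain ⟨y, hy, hyx⟩ := h1
  exact Subtype.ext hyx ▸ hy

/-- The data of the reduction modulo `O_α(M)`. -/
theorem derived_quotient_le_fitting (hG : Cfsg.IsMinSimpleOddOrder G) {M : Subgroup G} (hM : IsCoatom M) :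
    commutator (↥M ⧸ Cfsg.piCore (Cfsg.alpha M) ↥M) ≤
      Cfsg.fittingSubgroup (↥M ⧸ Cfsg.piCore (Cfsg.alpha M) ↥M) := by
  haveI : Group.IsSolvable M := hG.2.2.2 M hM.1
  set O := Cfsg.piCore (Cfsg.alpha M) ↥M with hO
  refine commutator_le_fitting ((OddOrder.odd_card hG M).of_dvd_nat (card_quotient_dvd_card O))
    fun t ht => ?_
  haveI := Fact.mk ht
  by_cases hα : t ∈ Cfsg.alpha M
  · have h1 : Cfsg.pCore t (↥M ⧸ O) = ⊥ := by
      refine le_bot_iff.mp ?_
      rw [← Cores.piCore_quotient_piCore (G := M) (Cfsg.alpha M)]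
      haveI : (Cfsg.pCore t (↥M ⧸ O)).Normal := pCore_normal t _
      refine Cores.le_piCore fun r hr hd => ?_
      obtain ⟨n, hn⟩ := IsPGroup.iff_card.mp (Cores.pCore_isPGroup (p := t) (G := ↥M ⧸ O))
      rw [hn] at hd
      exact (Nat.prime_dvd_prime_iff_eq hr ht).mp (hr.dvd_of_dvd_pow hd) ▸ hα
    intro E _ _
    exact (Subgroup.card_le_card_group E).trans
      ((card_eq_one.mpr h1).le.trans (Nat.one_le_pow _ _ ht.pos))
  · refine BG4.pRankLE_subgroup (H48.pRankLE_quotient (pRankLE_two_of_not_alpha ht hα) ?_) _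
    rw [Nat.coprime_comm, ht.coprime_iff_not_dvd]
    exact fun hd => hα (Cores.piCore_isPiNumber (Cfsg.alpha M) t ht hd)

/-- For `p ∈ σ(M)` a Sylow `p`-subgroup maps into `O_p(M / O_α(M))`. -/
theorem map_sylow_le_pCore (hG : Cfsg.IsMinSimpleOddOrder G) {M : Subgroup G} (hM : IsCoatom M)
    {p : ℕ} [Fact p.Prime] (hp : p ∈ Cfsg.sigma M) (P : Sylow p M) :
    (P : Subgroup M).map (QuotientGroup.mk' (Cfsg.piCore (Cfsg.alpha M) ↥M)) ≤
      Cfsg.pCore p (↥M ⧸ Cfsg.piCore (Cfsg.alpha M) ↥M) := by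
  refine le_pCore_of_le_fitting (P.isPGroup'.map _) ((le_trans (Subgroup.map_mono
    (sylow_le_derived hG hM hp P)) ?_).trans (derived_quotient_le_fitting hG hM))
  rw [commutator_def, commutator_def, map_commutator,
    map_top_of_surjective _ (QuotientGroup.mk'_surjective _)]

theorem sylow_le_piCore_alpha (hG : Cfsg.IsMinSimpleOddOrder G) {M : Subgroup G} (hM : IsCoatom M)
    {p : ℕ} [Fact p.Prime] (hp : p ∈ Cfsg.alpha M) (P : Sylow p M) :
    (P : Subgroup M) ≤ Cfsg.piCore (Cfsg.alpha M) ↥M := by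
  set O := Cfsg.piCore (Cfsg.alpha M) ↥M with hO
  have h1 : Cfsg.pCore p (↥M ⧸ O) = ⊥ := by
    refine le_bot_iff.mp ?_
    rw [← Cores.piCore_quotient_piCore (G := M) (Cfsg.alpha M)]
    haveI : (Cfsg.pCore p (↥M ⧸ O)).Normal := pCore_normal p _
    refine Cores.le_piCore fun r hr hd => ?_
    obtain ⟨n, hn⟩ := IsPGroup.iff_card.mp (Cores.pCore_isPGroup (p := p) (G := ↥M ⧸ O))
    rw [hn] at hd
    exact (Nat.prime_dvd_prime_iff_eq hr Fact.out).mp (hr.dvd_of_dvd_pow hd) ▸ hp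
  have h2 := map_sylow_le_pCore hG hM (alpha_subset_sigma hG hM hp) P
  rw [h1, le_bot_iff, Subgroup.map_eq_bot_iff, QuotientGroup.ker_mk'] at h2
  exact h2

theorem sylow_le_piCore_sigma (hG : Cfsg.IsMinSimpleOddOrder G) {M : Subgroup G} (hM : IsCoatom M)
    {p : ℕ} [Fact p.Prime] (hp : p ∈ Cfsg.sigma M) (P : Sylow p M) :
    (P : Subgroup M) ≤ Cfsg.piCore (Cfsg.sigma M) ↥M := by
  set O := Cfsg.piCore (Cfsg.alpha M) ↥M with hO
  set N := (Cfsg.pCore p (↥M ⧸ O)).comap (QuotientGroup.mk' O) with hN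
  have hPN : (P : Subgroup M) ≤ N := Subgroup.map_le_iff_le_comap.mp (map_sylow_le_pCore hG hM hp P)
  haveI : (Cfsg.pCore p (↥M ⧸ O)).Normal := pCore_normal p _
  haveI : N.Normal := Normal.comap inferInstance _
  refine hPN.trans (Cores.le_piCore fun r hr hd => ?_)
  have hcard : Nat.card N = Nat.card O * Nat.card (Cfsg.pCore p (↥M ⧸ O)) := by
    have h1 := O.relIndex_mul_relIndex (⊥ : Subgroup M) N
    rw [← relIndex_bot_left N, ← relIndex_bot_left O,
      ← relIndex_mul_relIndex (⊥ : Subgroup M) O N bot_le (QuotientGroup.le_comap_mk' O _)]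
    congr 1
    conv_lhs => rw [← QuotientGroup.ker_mk' O]
    rw [relIndex_ker, hN, map_comap_eq_self_of_surjective (QuotientGroup.mk'_surjective _)]
  rw [hcard] at hd
  rcases hr.dvd_mul.mp hd with h | h
  · exact alpha_subset_sigma hG hM (Cores.piCore_isPiNumber (Cfsg.alpha M) r hr h)
  · obtain ⟨n, hn⟩ := IsPGroup.iff_card.mp (Cores.pCore_isPGroup (p := p) (G := ↥M ⧸ O))
    rw [hn] at h
    exact (Nat.prime_dvd_prime_iff_eq hr Fact.out).mp (hr.dvd_of_dvd_pow h) ▸ hp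

/-- Hall subgroup criterion. -/
theorem isPiHallOf_piCoreOf (hG : Cfsg.IsMinSimpleOddOrder G) {M : Subgroup G} {π : Set ℕ}
    (hπσ : π ⊆ Cfsg.sigma M)
    (h : ∀ (p : ℕ) [Fact p.Prime], p ∈ π → ∀ P : Sylow p M, (P : Subgroup M) ≤ Cfsg.piCore π ↥M) :
    Cfsg.IsPiHallOf π (Cfsg.piCoreOf π M) M ∧ Cfsg.IsPiHall π (Cfsg.piCoreOf π M) := by
  have h1 : ∀ p : ℕ, p.Prime → p ∈ π → ¬ p ∣ (Cfsg.piCoreOf π M).relIndex M := by
    intro p hp hpπ hd
    haveI := Fact.mk hp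
    obtain ⟨P⟩ : Nonempty (Sylow p M) := inferInstance
    refine P.not_dvd_index (hd.trans ?_)
    have he : (Cfsg.piCoreOf π M).relIndex M = (Cfsg.piCore π ↥M).index := by
      rw [Cfsg.piCoreOf, relIndex, subgroupOf, comap_map_eq_self_of_injective M.subtype_injective]
    rw [he]
    exact index_dvd_of_le (h p hpπ P)
  refine ⟨⟨map_subtype_le _, OddOrder.piCoreOf_isPiNumber _ _, h1⟩,
    OddOrder.piCoreOf_isPiNumber _ _, fun p hp hpπ hd => ?_⟩
  haveI := Fact.mk hp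
  rw [← relIndex_mul_index (show Cfsg.piCoreOf π M ≤ M from map_subtype_le _)] at hd
  rcases hp.dvd_mul.mp hd with hd | hd
  · exact h1 p hp hpπ hd
  · exact OddOrder.not_dvd_index_of_mem_sigma (hπσ hpπ) hd

/-- BG 10.2 (a). -/
theorem alphaCore_hall (hG : Cfsg.IsMinSimpleOddOrder G) {M : Subgroup G} (hM : IsCoatom M) :
    Cfsg.IsPiHallOf (Cfsg.alpha M) (Cfsg.alphaCore M) M ∧
      Cfsg.IsPiHall (Cfsg.alpha M) (Cfsg.alphaCore M) :=
  isPiHallOf_piCoreOf hG (alpha_subset_sigma hG hM) fun _ _ hp P => sylow_le_piCore_alpha hG hM hp P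

/-- BG 10.2 (b). -/
theorem sigmaCore_hall (hG : Cfsg.IsMinSimpleOddOrder G) {M : Subgroup G} (hM : IsCoatom M) :
    Cfsg.IsPiHallOf (Cfsg.sigma M) (Cfsg.sigmaCore M) M ∧
      Cfsg.IsPiHall (Cfsg.sigma M) (Cfsg.sigmaCore M) :=
  isPiHallOf_piCoreOf hG subset_rfl fun _ _ hp P => sylow_le_piCore_sigma hG hM hp P

theorem alphaCore_le_sigmaCore (hG : Cfsg.IsMinSimpleOddOrder G) {M : Subgroup G} (hM : IsCoatom M) :
    Cfsg.alphaCore M ≤ Cfsg.sigmaCore M :=
  Subgroup.map_mono (Cores.piCore_mono (alpha_subset_sigma hG hM))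

/-- BG 10.2 (c). -/
theorem sigmaCore_le_derived (hG : Cfsg.IsMinSimpleOddOrder G) {M : Subgroup G} (hM : IsCoatom M) :
    Cfsg.sigmaCore M ≤ ⁅M, M⁆ := by
  refine Coprime.le_of_exists_sylow_le fun q hq => ?_
  haveI := Fact.mk hq
  obtain ⟨Q⟩ : Nonempty (Sylow q ↥(Cfsg.sigmaCore M)) := inferInstance
  refine ⟨Q, ?_⟩
  intro x hx
  by_cases hx1 : x = 1
  · rw [hx1]; exact one_mem _
  have hxσ : x ∈ Cfsg.sigmaCore M := map_subtype_le _ hx
  have hxM : x ∈ M := OddOrder.sigmaCore_le M hxσ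
  have hxq : IsPGroup q (zpowers x) := (Q.isPGroup'.map _).to_le (zpowers_le.mpr hx)
  obtain ⟨P, hP⟩ := (hxq.comap_subtype (K := M)).exists_le_sylow
  have hqσ : q ∈ Cfsg.sigma M := by
    refine OddOrder.sigmaCore_isPiNumber M q hq ?_
    obtain ⟨n, hn⟩ := IsPGroup.iff_card.mp hxq
    exact (dvd_pow_self q fun h0 => hx1 (zpowers_eq_bot.mp (card_eq_one.mp (by rw [hn, h0, pow_zero])))).trans
      (hn ▸ card_dvd_of_le (zpowers_le.mpr hxσ))
  rw [← map_subtype_commutator]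
  exact ⟨⟨x, hxM⟩, sylow_le_derived hG hM hqσ P (hP (mem_zpowers x : x ∈ zpowers x)), rfl⟩

/-- BG 10.2 (e). -/
theorem sigmaCore_ne_bot (hG : Cfsg.IsMinSimpleOddOrder G) {M : Subgroup G} (hM : IsCoatom M) :
    Cfsg.sigmaCore M ≠ ⊥ := by
  intro h0
  haveI : Group.IsSolvable M := hG.2.2.2 M hM.1
  have hσ : ∀ t : ℕ, t ∉ Cfsg.sigma M := by
    intro t ht
    haveI : Fact t.Prime := ⟨ht.1⟩
    obtain ⟨P⟩ : Nonempty (Sylow t M) := inferInstance
    have h1 := sylow_le_piCore_sigma hG hM ht P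
    rw [(Subgroup.map_eq_bot_iff_of_injective _ M.subtype_injective).mp h0, le_bot_iff] at h1
    exact P.ne_bot_of_dvd_card ht.2.1 h1
  have hrk : ∀ t : ℕ, t.Prime → Cfsg.PRankLE t 2 (Cfsg.pCore t ↥M) := fun t ht =>
    haveI : Fact t.Prime := ⟨ht⟩
    BG4.pRankLE_subgroup (pRankLE_two_of_not_alpha ht
      fun h => hσ t (alpha_subset_sigma hG hM h)) _
  obtain ⟨p, hp, hpM, hmax⟩ : ∃ p : ℕ, p.Prime ∧ p ∣ Nat.card M ∧
      ∀ t : ℕ, t.Prime → t ∣ Nat.card M → t ≤ p := by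
    have hne : (Nat.card M).primeFactors.Nonempty := Nat.nonempty_primeFactors.mpr
      ((Subgroup.one_lt_card_iff_ne_bot M).mpr (OddOrder.max_ne_bot hG hM))
    refine ⟨_, (Nat.mem_primeFactors.mp (Finset.max'_mem _ hne)).1,
      (Nat.mem_primeFactors.mp (Finset.max'_mem _ hne)).2.1, fun t ht hd => Finset.le_max' _ t ?_⟩
    exact Nat.mem_primeFactors.mpr ⟨ht, hd, Nat.card_pos.ne'⟩
  haveI := Fact.mk hp
  obtain ⟨N, hNc, hN⟩ := BG4.exists_char_hall_gt (OddOrder.odd_card hG M) hrk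
    (commutator_le_fitting (OddOrder.odd_card hG M) hrk) (p - 1)
  have hNp : IsPGroup p N := by
    refine (Cores.isPGroup_iff_isPiNumber hp).2 fun t ht hd => ?_
    have h1 := hmax t ht (hd.trans (card_subgroup_dvd_card N))
    have h2 := (hN.1 t ht hd).2
    exact le_antisymm h1 (by omega)
  have hidx : ¬ p ∣ N.index := hN.2 p hp ⟨hp, by have := hp.pos; omega⟩
  let P : Sylow p M := hNp.toSylow hidx
  refine hσ p (BG11.mem_sigma_of_normalizer_le hpM (isSylowOf_map P) ?_)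
  rw [show (P : Subgroup M) = N from rfl]
  refine (OddOrder.normalizer_eq_max hG hM (map_subtype_le N) ?_ ?_).le
  · intro hN0
    exact P.ne_bot_of_dvd_card hpM ((Subgroup.map_eq_bot_iff_of_injective _ M.subtype_injective).mp hN0)
  · have h3 := le_normalizer_map (H := N) M.subtype
    rw [normalizer_eq_top (H := N), ← MonoidHom.range_eq_map, range_subtype] at h3
    exact h3

end Cfsg.Agent.OddOrder.BG10

namespace Cfsg.Agent.OddOrder.BG10

open Subgroup

variable {G : Type*} [Group G] [Finite G]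

/-- BG 10.2 (d), the rank part. -/
theorem rankLE_quotient_alphaCore (hG : Cfsg.IsMinSimpleOddOrder G) {M : Subgroup G} (hM : IsCoatom M) :
    Cfsg.RankLE 2 (↥M ⧸ Cfsg.piCore (Cfsg.alpha M) ↥M) := by
  intro t ht
  haveI : Fact t.Prime := ⟨ht⟩
  set O := Cfsg.piCore (Cfsg.alpha M) ↥M with hO
  by_cases hα : t ∈ Cfsg.alpha M
  · intro E _ hEe
    have hEp : IsPGroup t E := fun x => ⟨1, Subtype.ext (by simpa using hEe x x.2)⟩
    obtain ⟨n, hn⟩ := IsPGroup.iff_card.mp hEp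
    rcases Nat.eq_zero_or_pos n with rfl | hn0
    · rw [hn, pow_zero]; exact Nat.one_le_pow _ _ ht.pos
    exfalso
    obtain ⟨P⟩ : Nonempty (Sylow t M) := inferInstance
    have h1 : t ∣ O.index := by
      rw [index_eq_card]
      exact ((dvd_pow_self t hn0.ne').trans (hn ▸ card_subgroup_dvd_card E))
    exact P.not_dvd_index (h1.trans (index_dvd_of_le (sylow_le_piCore_alpha hG hM hα P)))
  · refine H48.pRankLE_quotient (pRankLE_two_of_not_alpha ht hα) ?_
    rw [Nat.coprime_comm, ht.coprime_iff_not_dvd]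
    exact fun hd => hα (Cores.piCore_isPiNumber (Cfsg.alpha M) t ht hd)

/-- BG 10.2 (d), the nilpotence part. -/
theorem isNilpotent_derived_quotient (hG : Cfsg.IsMinSimpleOddOrder G) {M : Subgroup G} (hM : IsCoatom M) :
    Group.IsNilpotent
      ↥((commutator ↥M).map (QuotientGroup.mk' (Cfsg.piCore (Cfsg.alpha M) ↥M))) := by
  set O := Cfsg.piCore (Cfsg.alpha M) ↥M with hO
  have h : (commutator ↥M).map (QuotientGroup.mk' O) ≤ Cfsg.fittingSubgroup (↥M ⧸ O) := by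
    refine le_of_eq_of_le ?_ (derived_quotient_le_fitting hG hM)
    rw [commutator_def, commutator_def, map_commutator,
      map_top_of_surjective _ (QuotientGroup.mk'_surjective _)]
  haveI := Cores.fittingSubgroup_isNilpotent (G := ↥M ⧸ O)
  exact (Group.isNilpotent_congr (subgroupOfEquivOfLe h)).mp inferInstance

/-- A normal Hall `π`-subgroup is the `π`-core. -/
theorem eq_piCoreOf_of_hall {π : Set ℕ} {M N : Subgroup G} (hn : M ≤ normalizer (N : Set G))
    (hN : Cfsg.IsPiHallOf π N M) : N = Cfsg.piCoreOf π M := by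
  obtain ⟨hle, h1, h2⟩ := hN
  have hNO : N ≤ Cfsg.piCoreOf π M := OddOrder.le_piCoreOf hle hn h1
  refine le_antisymm hNO (relIndex_eq_one.mp ?_)
  by_contra hne
  obtain ⟨q, hq, hd⟩ := Nat.exists_prime_and_dvd hne
  refine h2 q hq (OddOrder.piCoreOf_isPiNumber π M q hq (hd.trans (relIndex_dvd_card _ _))) ?_
  refine hd.trans ?_
  rw [← relIndex_mul_relIndex N (Cfsg.piCoreOf π M) M hNO (map_subtype_le _)]
  exact Dvd.intro _ rfl

end Cfsg.Agent.OddOrder.BG10
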