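import Cfsg.Agent.OddOrder.BG10.Cores
import Cfsg.Agent.H72.PLengthOne
import Cfsg.Agent.PGroups.Basic

/-!
BG 10.6 (b): a Sylow `p`-subgroup lies in the derived group of its normaliser, given that proper
subgroups have `p`-length one.
-/

set_option autoImplicit false

namespace Cfsg.Agent.OddOrder.BG10

open Subgroup H40
open scoped commutatorElement Pointwise

variable {G : Type*} [Group G] [Finite G]

/-- The normaliser of a Sylow subgroup controls its fusion. -/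
theorem normalizer_controls_fusion (hG : Cfsg.IsMinSimpleOddOrder G) {p : ℕ} [Fact p.Prime]
    (hpl : ∀ H : Subgroup G, H ≠ ⊤ → Cfsg.PLengthLE p 1 H) (P : Sylow p G)
    (hP0 : (P : Subgroup G) ≠ ⊥) :
    Fusion.ControlsElementFusion (normalizer ((P : Subgroup G) : Set G)) (P : Subgroup G) := by
  have hPtop : (P : Subgroup G) ≠ ⊤ := H41.ne_top_of_isPGroup hG.2 P.isPGroup'
  obtain ⟨M, hM, hNM⟩ :=
    OddOrder.exists_coatom_ge (BG11.normalizer_ne_top' hG hP0 hPtop)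
  have hPM : (P : Subgroup G) ≤ M := le_normalizer.trans hNM
  have hPof : IsSylowOf p (P : Subgroup G) M :=
    BG11.isSylowOf_mono (BG11.isSylowOf_top P) hPM le_top
  have hd : p ∣ Nat.card M := by
    obtain ⟨k, hk⟩ := IsPGroup.iff_card.mp P.isPGroup'
    rcases Nat.eq_zero_or_pos k with rfl | hk0
    · exact absurd (card_eq_one.mp (hk.trans (pow_zero p))) hP0
    · exact ((hk ▸ dvd_pow_self p hk0.ne' : p ∣ Nat.card (P : Subgroup G))).trans (card_dvd_of_le hPM)
  have hp : p ∈ Cfsg.sigma M := BG11.mem_sigma_of_normalizer_le hd hPof hNM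
  intro x hx g hgx
  by_cases hx1 : x = 1
  · exact ⟨1, one_mem _, by rw [hx1]; group⟩
  obtain ⟨m, hm, c, hc, rfl⟩ := (sigma_trans' hG hM hp (P.isPGroup'.to_le (zpowers_le.mpr hx))
    (by rwa [ne_eq, zpowers_eq_bot]) ((zpowers_le.mpr hx).trans hPM)).1 g (by
      rw [cj, MonoidHom.map_zpowers, zpowers_le]
      exact hPM hgx)
  have hmx : m * x * m⁻¹ = m * c * x * (m * c)⁻¹ := by
    calc m * x * m⁻¹ = m * (x * c) * c⁻¹ * m⁻¹ := by group
      _ = m * (c * x) * c⁻¹ * m⁻¹ := by rw [mem_centralizer_iff.mp hc x (mem_zpowers x)]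
      _ = m * c * x * (m * c)⁻¹ := by group
  obtain ⟨S, hS⟩ := BG11.exists_sylow_eq hPof
  have hmem : ∀ y : M, y ∈ (S : Subgroup M) ↔ (y : G) ∈ (P : Subgroup G) := fun y => by
    rw [← hS]
    exact (Subgroup.mem_map_iff_mem M.subtype_injective).symm
  obtain ⟨k, hk, d, hd', hkd⟩ := H72.PLengthOne.fusion (hpl M hM.1) S {(⟨x, hPM hx⟩ : M)} ⟨m, hm⟩
    (by rintro _ rfl; exact (hmem _).mpr hx)
    (by
      rintro _ ⟨y, rfl, rfl⟩
      refine (hmem _).mpr ?_
      show m * x * m⁻¹ ∈ (P : Subgroup G)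
      rw [hmx]
      exact hgx)
  refine ⟨k, ?_, ?_⟩
  · refine mem_normalizer_iff.mpr fun h => ⟨fun hh => ?_, fun hh => ?_⟩
    · exact (hmem _).mp ((mem_normalizer_iff.mp hk ⟨h, hPM hh⟩).mp ((hmem _).mpr hh))
    · have h2 : h ∈ M := by
        have := mul_mem (mul_mem (inv_mem k.2) (hPM hh)) k.2
        simpa [mul_assoc] using this
      exact (hmem ⟨h, h2⟩).mp ((mem_normalizer_iff.mp hk ⟨h, h2⟩).mpr ((hmem _).mpr hh))
  · rw [← hmx]
    have h1 : (x : G) * d = d * x :=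
      congrArg Subtype.val (mem_centralizer_iff.mp hd' _ (Set.mem_singleton _))
    have h2 : (k : G) * d = m := congrArg Subtype.val hkd
    rw [← h2]
    calc (k : G) * x * (k : G)⁻¹ = k * (x * d) * (d : G)⁻¹ * (k : G)⁻¹ := by group
      _ = k * d * x * ((k : G) * d)⁻¹ := by rw [h1]; group

/-- A Sylow subgroup lies in the derived group of its normaliser. -/
theorem sylow_le_derived_normalizer (hG : Cfsg.IsMinSimpleOddOrder G) {p : ℕ} [Fact p.Prime]
    (hpl : ∀ H : Subgroup G, H ≠ ⊤ → Cfsg.PLengthLE p 1 H) (P : Sylow p G) :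
    (P : Subgroup G) ≤ ⁅normalizer ((P : Subgroup G) : Set G), normalizer ((P : Subgroup G) : Set G)⁆ := by
  by_cases hP0 : (P : Subgroup G) = ⊥
  · exact hP0.le.trans bot_le
  have h := Fusion.commutator_inf_eq_of_controls P le_normalizer
    (normalizer_controls_fusion hG hpl P hP0)
  rw [commutator_eq_top hG, top_inf_eq] at h
  exact h.le.trans inf_le_left

/-- A Sylow subgroup is its commutator with a complement in its normaliser. -/
theorem sylow_eq_commutator (hG : Cfsg.IsMinSimpleOddOrder G) {p : ℕ} [Fact p.Prime]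
    (hpl : ∀ H : Subgroup G, H ≠ ⊤ → Cfsg.PLengthLE p 1 H) (P : Sylow p G) {V : Subgroup G}
    (hV : Cfsg.IsComplIn (P : Subgroup G) V (normalizer ((P : Subgroup G) : Set G))) :
    (P : Subgroup G) = ⁅(P : Subgroup G), V⁆ := by
  set Q : Subgroup G := (P : Subgroup G) with hQdef
  obtain ⟨-, hVN, hdis, hmul⟩ := hV
  set C := ⁅Q, V⁆ with hCdef
  have hCQ : C ≤ Q := commutator_le.mpr fun a ha b hb => by
    have h1 : b * a⁻¹ * b⁻¹ ∈ Q := (mem_normalizer_iff.mp (hVN hb) a⁻¹).mp (inv_mem ha)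
    simpa [commutatorElement_def, mul_assoc] using mul_mem ha h1
  have hconj : ∀ a ∈ Q, ∀ b ∈ V, b * a * b⁻¹ ∈ Q := fun a ha b hb =>
    (mem_normalizer_iff.mp (hVN hb) a).mp ha
  have hnC1 : ∀ c ∈ Q, ∀ y ∈ C, c * y * c⁻¹ ∈ C := by
    intro c hc y hy
    refine (commutator_le (H₃ := C.comap (MulAut.conj c).toMonoidHom)).mpr (fun a ha b hb => ?_) hy
    show c * ⁅a, b⁆ * c⁻¹ ∈ C
    have : c * ⁅a, b⁆ * c⁻¹ = ⁅c * a, b⁆ * ⁅c, b⁆⁻¹ := by
      simp only [commutatorElement_def]; group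
    rw [this]
    exact mul_mem (commutator_mem_commutator (mul_mem hc ha) hb)
      (inv_mem (commutator_mem_commutator hc hb))
  have hnC2 : ∀ v ∈ V, ∀ y ∈ C, v * y * v⁻¹ ∈ C := by
    intro v hv y hy
    refine (commutator_le (H₃ := C.comap (MulAut.conj v).toMonoidHom)).mpr (fun a ha b hb => ?_) hy
    show v * ⁅a, b⁆ * v⁻¹ ∈ C
    have : v * ⁅a, b⁆ * v⁻¹ = ⁅v * a * v⁻¹, v * b * v⁻¹⁆ := by
      simp only [commutatorElement_def]; group
    rw [this]
    exact commutator_mem_commutator (hconj a ha v hv) (mul_mem (mul_mem hv hb) (inv_mem hv))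
  set Y := C ⊔ ⁅Q, Q⁆ with hYdef
  set X := Y ⊔ ⁅V, V⁆ with hXdef
  have hQQ : ⁅Q, Q⁆ ≤ Q := commutator_le.mpr fun a ha b hb => by
    rw [commutatorElement_def]
    exact mul_mem (mul_mem (mul_mem ha hb) (inv_mem ha)) (inv_mem hb)
  have hVV : ⁅V, V⁆ ≤ V := commutator_le.mpr fun a ha b hb => by
    rw [commutatorElement_def]
    exact mul_mem (mul_mem (mul_mem ha hb) (inv_mem ha)) (inv_mem hb)
  have hYQ : Y ≤ Q := sup_le hCQ hQQ
  have hCX : C ≤ X := le_sup_left.trans le_sup_left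
  have hQX : ⁅Q, Q⁆ ≤ X := le_sup_right.trans le_sup_left
  have hVX : ⁅V, V⁆ ≤ X := le_sup_right
  -- `X` is normalised by `Q` and `V`
  have hQn : ∀ c ∈ Q, ∀ y ∈ X, c * y * c⁻¹ ∈ X := by
    intro c hc y hy
    refine (show X ≤ X.comap (MulAut.conj c).toMonoidHom from sup_le (sup_le ?_ ?_) ?_) hy
    · exact fun z hz => hCX (hnC1 c hc z hz)
    · intro z hz
      show c * z * c⁻¹ ∈ X
      refine hQX ((commutator_le (H₃ := ⁅Q, Q⁆.comap (MulAut.conj c).toMonoidHom)).mpr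
        (fun a ha b hb => ?_) hz)
      show c * ⁅a, b⁆ * c⁻¹ ∈ ⁅Q, Q⁆
      rw [show c * ⁅a, b⁆ * c⁻¹ = ⁅c * a * c⁻¹, c * b * c⁻¹⁆ by
        simp only [commutatorElement_def]; group]
      exact commutator_mem_commutator (mul_mem (mul_mem hc ha) (inv_mem hc))
        (mul_mem (mul_mem hc hb) (inv_mem hc))
    · intro z hz
      show c * z * c⁻¹ ∈ X
      rw [show c * z * c⁻¹ = ⁅c, z⁆ * z by simp only [commutatorElement_def]; group]
      exact mul_mem (hCX (commutator_mem_commutator hc (hVV hz))) (hVX hz)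
  have hVn : ∀ v ∈ V, ∀ y ∈ X, v * y * v⁻¹ ∈ X := by
    intro v hv y hy
    refine (show X ≤ X.comap (MulAut.conj v).toMonoidHom from sup_le (sup_le ?_ ?_) ?_) hy
    · exact fun z hz => hCX (hnC2 v hv z hz)
    · intro z hz
      show v * z * v⁻¹ ∈ X
      refine hQX ((commutator_le (H₃ := ⁅Q, Q⁆.comap (MulAut.conj v).toMonoidHom)).mpr
        (fun a ha b hb => ?_) hz)
      show v * ⁅a, b⁆ * v⁻¹ ∈ ⁅Q, Q⁆
      rw [show v * ⁅a, b⁆ * v⁻¹ = ⁅v * a * v⁻¹, v * b * v⁻¹⁆ by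
        simp only [commutatorElement_def]; group]
      exact commutator_mem_commutator (hconj a ha v hv) (hconj b hb v hv)
    · intro z hz
      show v * z * v⁻¹ ∈ X
      exact hVX ((commutator_le (H₃ := ⁅V, V⁆.comap (MulAut.conj v).toMonoidHom)).mpr
        (fun a ha b hb => by
          show v * ⁅a, b⁆ * v⁻¹ ∈ ⁅V, V⁆
          rw [show v * ⁅a, b⁆ * v⁻¹ = ⁅v * a * v⁻¹, v * b * v⁻¹⁆ by
            simp only [commutatorElement_def]; group]
          exact commutator_mem_commutator (mul_mem (mul_mem hv ha) (inv_mem hv))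
            (mul_mem (mul_mem hv hb) (inv_mem hv))) hz)
  have hNX : ⁅normalizer (Q : Set G), normalizer (Q : Set G)⁆ ≤ X := by
    refine commutator_le.mpr fun a ha b hb => ?_
    obtain ⟨p1, hp1, v1, hv1, rfl⟩ := hmul a ha
    obtain ⟨p2, hp2, v2, hv2, rfl⟩ := hmul b hb
    have e1 : ⁅p1 * v1, p2 * v2⁆ =
        (p1 * ⁅v1, p2 * v2⁆ * p1⁻¹) * ⁅p1, p2 * v2⁆ := by
      simp only [commutatorElement_def]; group
    have e2 : ∀ a : G, ⁅a, p2 * v2⁆ = ⁅a, p2⁆ * (p2 * ⁅a, v2⁆ * p2⁻¹) := fun a => by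
      simp only [commutatorElement_def]; group
    rw [e1, e2, e2]
    refine mul_mem (hQn p1 hp1 _ (mul_mem ?_ (hQn p2 hp2 _ ?_))) (mul_mem ?_ (hQn p2 hp2 _ ?_))
    · rw [← commutatorElement_inv]
      exact inv_mem (hCX (commutator_mem_commutator hp2 hv1))
    · exact hVX (commutator_mem_commutator hv1 hv2)
    · exact hQX (commutator_mem_commutator hp1 hp2)
    · exact hCX (commutator_mem_commutator hp1 hv2)
  have hQY : Q ≤ Y := by
    intro x hx
    have hVY : ⁅V, V⁆ ≤ normalizer (Y : Set G) := fun v hv => by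
      refine mem_normalizer_iff.mpr fun z => ?_
      have key : ∀ w ∈ V, ∀ z ∈ Y, w * z * w⁻¹ ∈ Y := by
        intro w hw z hz
        refine (show Y ≤ Y.comap (MulAut.conj w).toMonoidHom from sup_le ?_ ?_) hz
        · exact fun u hu => le_sup_left (α := Subgroup G) (hnC2 w hw u hu)
        · intro u hu
          show w * u * w⁻¹ ∈ Y
          refine (le_sup_right : ⁅Q, Q⁆ ≤ Y) ((commutator_le
            (H₃ := ⁅Q, Q⁆.comap (MulAut.conj w).toMonoidHom)).mpr (fun a ha b hb => ?_) hu)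
          show w * ⁅a, b⁆ * w⁻¹ ∈ ⁅Q, Q⁆
          rw [show w * ⁅a, b⁆ * w⁻¹ = ⁅w * a * w⁻¹, w * b * w⁻¹⁆ by
            simp only [commutatorElement_def]; group]
          exact commutator_mem_commutator (hconj a ha w hw) (hconj b hb w hw)
      refine ⟨key v (hVV hv) z, fun h => ?_⟩
      simpa [mul_assoc] using key v⁻¹ (inv_mem (hVV hv)) _ h
    have hxX : x ∈ X := hNX (sylow_le_derived_normalizer hG hpl P hx)
    have hset : ((Y ⊔ ⁅V, V⁆ : Subgroup G) : Set G) = (Y : Set G) * ((⁅V, V⁆ : Subgroup G) : Set G) :=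
      coe_mul_of_right_le_normalizer_left Y ⁅V, V⁆ hVY
    have hxX' : x ∈ ((Y ⊔ ⁅V, V⁆ : Subgroup G) : Set G) := hxX
    rw [hset] at hxX'
    obtain ⟨y, hy, v, hv, rfl⟩ := hxX'
    have hvQ : v ∈ Q := (Q.mul_mem_cancel_left (hYQ hy)).mp hx
    have hv1 : v = 1 := mem_bot.mp (hdis.le ⟨hvQ, hVV hv⟩)
    rw [hv1]
    simpa using hy
  refine le_antisymm ?_ hCQ
  have hgen : C.subgroupOf Q ⊔ frattini Q = ⊤ := by
    refine top_le_iff.mp fun x _ => ?_
    have h1 : (x : G) ∈ (C.subgroupOf Q ⊔ commutator Q).map Q.subtype := by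
      rw [Subgroup.map_sup, map_subgroupOf_eq_of_le hCQ, map_subtype_commutator]
      exact hQY x.2
    obtain ⟨y, hy, hyx⟩ := h1
    rw [← Subtype.ext hyx]
    exact sup_le_sup_left (PGroups.commutator_le_frattini P.isPGroup') _ hy
  exact subgroupOf_eq_top.mp (frattini_nongenerating hgen)

end Cfsg.Agent.OddOrder.BG10
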