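import Cfsg.Agent.OddOrder.BG10.Uniq
import Cfsg.Agent.OddOrder.BG10.Focal
import Cfsg.Agent.OddOrder.BG3.PLengthOne
import Cfsg.Agent.OddOrder.BG4.RankTwoGroup

/-!
BG 10.6 (a): proper subgroups of a minimal simple group of odd order have `p`-length one.
-/

set_option autoImplicit false

universe u

namespace Cfsg.Agent.OddOrder.BG10

open Subgroup H40
open scoped commutatorElement

/-- `p`-length one extends over a `p'`-index normal subgroup. -/
theorem pLengthLE_one_of_normal {X : Type u} [Group X] [Finite X] {p : ℕ} [Fact p.Prime]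
    (N : Subgroup X) [N.Normal] (hN : N.index.Coprime p) (h : Cfsg.PLengthLE p 1 N) :
    Cfsg.PLengthLE p 1 X := by
  haveI : (Cfsg.pPrimeCore p N).Characteristic := Cores.pPrimeCore_characteristic
  haveI : (upperPSeries p N 2).1.Characteristic := by
    rw [Cores.upperPSeries_two]
    refine characteristic_iff_map_le.mpr fun e => ?_
    exact Cores.pPrimePCore_map_le e.surjective
  set D1 := (Cfsg.pPrimeCore p N).map N.subtype with hD1
  set D2 := ((upperPSeries p N 2).1).map N.subtype with hD2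
  have h1 : D1 ≤ (upperPSeries p X 1).1 := by
    rw [Cores.upperPSeries_one]
    refine Cores.le_pPrimeCore ?_
    rw [hD1, card_map_of_injective N.subtype_injective]
    exact Cores.coprime_card_pPrimeCore
  have hf : H71.FactorShape p 1 ((upperPSeries p X 1).1.relIndex D2) := by
    refine H71.FactorShape.of_dvd (m := D1.relIndex D2) ?_ (relIndex_dvd_of_le_left D2 h1)
    rw [hD1, hD2, relIndex_map_map_of_injective _ _ N.subtype_injective]
    have := H71.factorShape_upperPSeries (p := p) (G := N) 1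
    rwa [Cores.upperPSeries_one] at this
  have h2 : D2 ≤ Cfsg.pPrimePCore p X := Cores.upperPSeries_two (G := X) ▸ H71.le_upperPSeries_succ D2 hf
  rw [Cores.pLengthLE_one_iff, ← Subgroup.index_eq_card]
  refine Nat.Coprime.coprime_dvd_left (index_dvd_of_le h2) ?_
  rw [hD2, Subgroup.index_map_subtype]
  refine Nat.Coprime.mul_left ?_ hN
  rw [Subgroup.index_eq_card]
  have h3 := Cores.pLengthLE_one_iff.mp h
  rwa [← Cores.upperPSeries_two] at h3

variable {G : Type u} [Group G] [Finite G]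

/-- Maximal subgroups have `p`-length one. -/
theorem pLengthLE_one_max (hG : Cfsg.IsMinSimpleOddOrder G) {M : Subgroup G} (hM : IsCoatom M)
    (p : ℕ) [Fact p.Prime] : Cfsg.PLengthLE p 1 M := by
  have hp : p.Prime := Fact.out
  haveI : Group.IsSolvable M := hG.2.2.2 M hM.1
  have hodd : Odd (Nat.card M) := OddOrder.odd_card hG M
  by_cases hpM : p ∣ Nat.card M
  swap
  · refine BG3.pLengthLE_one_of_pCore ?_
    rw [Nat.coprime_comm, hp.coprime_iff_not_dvd]
    exact fun hd => hpM (hd.trans (card_quotient_dvd_card _))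
  by_cases hα : p ∈ Cfsg.alpha M
  swap
  · rw [Cores.pLengthLE_one_iff, ← Subgroup.index_eq_card]
    exact (BG4.rank_two_structure hodd hpM (pRankLE_two_of_not_alpha hp hα)).2.2.2.2.2
  -- a prime outside `σ(M)`
  have hMne : M ≠ ⊥ := OddOrder.max_ne_bot hG hM
  obtain ⟨q, hq, hqM, hqσ⟩ : ∃ q : ℕ, q.Prime ∧ q ∣ Nat.card M ∧ q ∉ Cfsg.sigma M := by
    by_contra hne
    push Not at hne
    obtain ⟨h1, h2, h3⟩ := (sigmaCore_hall hG hM).1
    have hidx : (Cfsg.sigmaCore M).relIndex M = 1 := by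
      by_contra h4
      obtain ⟨l, hl, hld⟩ := Nat.exists_prime_and_dvd h4
      refine h3 l hl (hne l hl (hld.trans ?_)) hld
      exact ⟨Nat.card (Cfsg.sigmaCore M), by
        rw [mul_comm, BG3.card_eq_mul_relIndex h1]⟩
    have hle : M ≤ ⁅M, M⁆ := (relIndex_eq_one.mp hidx).trans (sigmaCore_le_derived hG hM)
    haveI : Nontrivial M := (nontrivial_iff_ne_bot M).mpr hMne
    refine (Group.IsSolvable.commutator_lt_top_of_nontrivial (G := M)).not_ge fun x _ => ?_
    obtain ⟨y, hy, hyx⟩ := (map_subtype_commutator M).ge (hle x.2)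
    rwa [← Subtype.ext hyx]
  haveI := Fact.mk hq
  have hqα : q ∉ Cfsg.alpha M := fun h => hqσ (alpha_subset_sigma hG hM h)
  obtain ⟨Q⟩ : Nonempty (Sylow q M) := inferInstance
  obtain ⟨x, hxQ, hxo, hxZ, -⟩ := exists_central_element hG hM hqM hqσ Q
  have hxM : x ∈ M := map_subtype_le _ hxQ
  set x' : M := ⟨x, hxM⟩ with hx'
  have hxo' : orderOf x' = q := (orderOf_mk x hxM).trans hxo
  set Hs := Cfsg.piCore (Cfsg.alpha M) ↥M with hHs
  have hHsn : Hs.Normal := piCore_normal _ _
  have hHsM : Cfsg.alphaCore M = Hs.map M.subtype := rfl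
  have hhall := (alphaCore_hall hG hM).1
  rw [hHsM] at hhall
  have hHsπ : ∀ l : ℕ, l.Prime → l ∣ Nat.card Hs → l ∈ Cfsg.alpha M := fun l hl hd =>
    Cores.piCore_isPiNumber _ l hl hd
  have hHsi : ∀ l : ℕ, l.Prime → l ∈ Cfsg.alpha M → ¬ l ∣ Hs.index := fun l hl hlα hd => by
    refine hhall.2.2 l hl hlα ?_
    rwa [relIndex, subgroupOf, comap_map_eq_self_of_injective M.subtype_injective]
  obtain ⟨E, hE, -, hxE⟩ := Coprime.exists_invariant_hall_ge (A := (⊥ : Subgroup M)) (K := ⊤)
    bot_le (by rw [card_bot]; exact Nat.coprime_one_left _) inferInstance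
    (U := zpowers x') le_top bot_le (π := {l : ℕ | l ∉ Cfsg.alpha M}) (fun l hl hd => by
      rw [Nat.card_zpowers, hxo', Nat.prime_dvd_prime_iff_eq hl hq] at hd
      exact hd ▸ hqα)
  have hcop : (Nat.card E).Coprime (Nat.card Hs) :=
    Nat.coprime_of_dvd fun l hl h1 h2 => hE.2.1 l hl h1 (hHsπ l hl h2)
  have hdis : Hs ⊓ E = ⊥ := Coprime.inf_eq_bot hcop.symm
  have hnE : E ≤ normalizer (Hs : Set M) := le_top.trans (normalizer_eq_top (H := Hs)).ge
  have htop : Hs ⊔ E = ⊤ := by
    refine eq_top_of_card_eq _ (le_antisymm (card_le_card_group _) ?_)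
    rw [Coprime.card_sup hnE hdis, ← Hs.card_mul_index]
    refine Nat.mul_le_mul_left _ (Nat.le_of_dvd Nat.card_pos ?_)
    have e3 : (E.index).Coprime Hs.index := Nat.coprime_of_dvd fun l hl h1 h2 => by
      by_cases hlα : l ∈ Cfsg.alpha M
      · exact hHsi l hl hlα h2
      · exact hE.2.2 l hl hlα (by rwa [relIndex_top_right])
    refine e3.symm.dvd_of_dvd_mul_right ?_
    rw [E.card_mul_index, ← Hs.card_mul_index]
    exact dvd_mul_left _ _
  have hpl : Cfsg.PLengthLE p 1 ↥⁅Hs, E⁆ := by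
    refine BG3.pLengthLE_one_commutator hodd htop hcop hxE (by rwa [Nat.card_zpowers, hxo']) ?_
    haveI := hxZ
    have hle : (Hs ⊓ centralizer (zpowers x' : Set M)).map M.subtype ≤
        Cfsg.alphaCore M ⊓ centralizer ({x} : Set G) := by
      rintro _ ⟨y, hy, rfl⟩
      exact ⟨⟨y, hy.1, rfl⟩, BG3.mem_centralizer_single.mpr
        (congrArg Subtype.val (mem_centralizer_iff.mp hy.2 x' (mem_zpowers x')))⟩
    exact IsZGroup.of_injective
      (f := (inclusion hle).comp (equivMapOfInjective _ _ M.subtype_injective).toMonoidHom)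
      ((inclusion_injective hle).comp (MulEquiv.injective _))
  -- `[M_α, E] = M_α`
  set C := ⁅Hs, E⁆ with hC
  have hCH : C ≤ Hs := Coprime.commutator_le_left_of_normalizer hnE
  haveI hCn : C.Normal := by
    rw [← normalizer_eq_top_iff, eq_top_iff, ← htop]
    exact sup_le (normalizer_commutator_ge_left Hs E) (normalizer_commutator_ge_right Hs E)
  haveI : ⁅Hs, Hs⁆.Normal := Subgroup.commutator_normal Hs Hs
  have hHsD : Hs ≤ commutator M := by
    intro y hy
    have h1 : (y : G) ∈ ⁅M, M⁆ := ((alphaCore_le_sigmaCore hG hM).trans (sigmaCore_le_derived hG hM))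
      ⟨y, hy, rfl⟩
    obtain ⟨z, hz, hzy⟩ := (map_subtype_commutator M).ge h1
    rwa [← Subtype.ext hzy]
  have hCeq : C = Hs := by
    set Y := C ⊔ ⁅Hs, Hs⁆ with hY
    have hYn : Y.Normal := Subgroup.sup_normal _ _
    have hYH : Y ≤ Hs := sup_le hCH (commutator_le_left Hs Hs)
    have hprod : ∀ a : M, ∃ h ∈ Hs, ∃ e ∈ E, h * e = a := fun a =>
      (Coprime.mem_sup_iff hnE).mp (htop.ge (mem_top a))
    have hcm : commutator M ≤ Y ⊔ ⁅E, E⁆ := by
      rw [commutator_def]
      refine commutator_le.mpr fun a _ b _ => ?_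
      obtain ⟨h, hh, e, he, rfl⟩ := hprod a
      obtain ⟨h', hh', e', he', rfl⟩ := hprod b
      have hconj : ∀ c : M, c ∈ Hs → ∀ z ∈ Y ⊔ ⁅E, E⁆, c * z * c⁻¹ ∈ Y ⊔ ⁅E, E⁆ := by
        intro c hc z hz
        refine (show Y ⊔ ⁅E, E⁆ ≤ (Y ⊔ ⁅E, E⁆).comap (MulAut.conj c).toMonoidHom from
          sup_le ?_ ?_) hz
        · exact fun u hu => mem_sup_left (hYn.conj_mem u hu c)
        · intro u hu
          show c * u * c⁻¹ ∈ Y ⊔ ⁅E, E⁆
          rw [show c * u * c⁻¹ = ⁅c, u⁆ * u by simp [commutatorElement_def]]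
          exact mul_mem (mem_sup_left (mem_sup_left (commutator_mem_commutator hc
            ((commutator_le_self E) hu)))) (mem_sup_right hu)
      rw [show ⁅h * e, h' * e'⁆ =
          (h * (⁅e, h'⁆ * (h' * ⁅e, e'⁆ * h'⁻¹)) * h⁻¹) * (⁅h, h'⁆ * (h' * ⁅h, e'⁆ * h'⁻¹)) by
        simp only [commutatorElement_def]; group]
      refine mul_mem (hconj h hh _ (mul_mem ?_ (hconj h' hh' _ (mem_sup_right
        (commutator_mem_commutator he he'))))) (mul_mem (mem_sup_left (mem_sup_right
          (commutator_mem_commutator hh hh'))) (hconj h' hh' _ (mem_sup_left (mem_sup_left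
            (commutator_mem_commutator hh he')))))
      rw [← commutatorElement_inv]
      exact inv_mem (mem_sup_left (mem_sup_left (commutator_mem_commutator hh' he)))
    have hHY : Hs ≤ Y := by
      intro y hy
      obtain ⟨u, hu, v, hv, rfl⟩ := (Coprime.mem_sup_iff (H := ⁅E, E⁆) (N := Y)
        (le_top.trans (normalizer_eq_top (H := Y)).ge)).mp (hcm (hHsD hy))
      have hvH : v ∈ Hs := (Hs.mul_mem_cancel_left (hYH hu)).mp hy
      rw [mem_bot.mp (hdis.le ⟨hvH, commutator_le_self E hv⟩), mul_one]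
      exact hu
    set π := QuotientGroup.mk' C with hπ
    have hperf : Hs.map π ≤ ⁅Hs.map π, Hs.map π⁆ := by
      refine (map_mono hHY).trans ?_
      rw [hY, Subgroup.map_sup]
      refine sup_le ?_ (map_commutator Hs Hs π).le
      rw [(Subgroup.map_eq_bot_iff _).mpr (by rw [hπ, QuotientGroup.ker_mk'])]
      exact bot_le
    have hbot : Hs.map π = ⊥ := by
      by_contra hne
      exact (Group.IsSolvable.commutator_lt_of_ne_bot hne).not_ge hperf
    rw [Subgroup.map_eq_bot_iff, hπ, QuotientGroup.ker_mk'] at hbot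
    exact le_antisymm hCH hbot
  rw [hCeq] at hpl
  refine pLengthLE_one_of_normal Hs ?_ hpl
  rw [Nat.coprime_comm, hp.coprime_iff_not_dvd]
  exact hHsi p hp hα

/-- Proper subgroups have `p`-length one. -/
theorem pLengthLE_one (hG : Cfsg.IsMinSimpleOddOrder G) (p : ℕ) [Fact p.Prime] {H : Subgroup G}
    (hH : H ≠ ⊤) : Cfsg.PLengthLE p 1 H := by
  obtain ⟨M, hM, hHM⟩ := OddOrder.exists_coatom_ge hH
  exact BG3.pLengthLE_congr_le (subgroupOfEquivOfLe hHM)
    (Cores.pLengthLE_subgroup (pLengthLE_one_max hG hM p) (H.subgroupOf M))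

end Cfsg.Agent.OddOrder.BG10
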