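import Cfsg.Agent.OddOrder.BG11.SylowOf
import Cfsg.Agent.H41.UTheorem
import Cfsg.Agent.H41.FittingMax
import Cfsg.Agent.OddOrder.BG4.RankTwoGroup

/-!
BG 10.1: `C(X)` permutes transitively the conjugates of `M` containing a nontrivial `p`-subgroup `X`,
`p ∈ σ(M)`.
-/

set_option autoImplicit false

namespace Cfsg.Agent.OddOrder.BG10

open Subgroup H40 BG11

/-- If `O_{p',p}` has index prime to `p` then `G = O_{p'}(G) N(S)` for a Sylow `p`-subgroup `S`. -/
theorem sup_normalizer_eq_top {X : Type*} [Group X] [Finite X] {p : ℕ} [Fact p.Prime]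
    (h : (Cfsg.pPrimePCore p X).index.Coprime p) (S : Sylow p X) :
    Cfsg.pPrimeCore p X ⊔ normalizer ((S : Subgroup X) : Set X) = ⊤ := by
  set N := Cfsg.pPrimeCore p X with hN
  set q := QuotientGroup.mk' N with hq
  have hsurj : Function.Surjective q := QuotientGroup.mk'_surjective N
  set S' : Sylow p (X ⧸ N) := S.mapSurjective hsurj with hS'
  have hi : ((Cfsg.pCore p (X ⧸ N)).index).Coprime p :=
    (index_comap_of_surjective (Cfsg.pCore p (X ⧸ N)) hsurj) ▸ h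
  have hle : Cfsg.pCore p (X ⧸ N) ≤ (S' : Subgroup (X ⧸ N)) := Cores.pCore_le_sylow S'
  have hrel : (Cfsg.pCore p (X ⧸ N)).relIndex (S' : Subgroup (X ⧸ N)) = 1 := by
    have h1 : (Cfsg.pCore p (X ⧸ N)).relIndex (S' : Subgroup (X ⧸ N)) ∣
        (Cfsg.pCore p (X ⧸ N)).index := Dvd.intro _ (relIndex_mul_index hle)
    obtain ⟨n, hn⟩ := IsPGroup.iff_card.mp S'.isPGroup'
    exact Nat.eq_one_of_dvd_coprimes (hi.pow_right n) h1 (hn ▸ relIndex_dvd_card _ _)
  have heq : (S' : Subgroup (X ⧸ N)) = Cfsg.pCore p (X ⧸ N) :=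
    le_antisymm (relIndex_eq_one.mp hrel) hle
  haveI : (S' : Subgroup (X ⧸ N)).Normal := heq ▸ pCore_normal p _
  haveI : ((S : Subgroup X) ⊔ N).Normal := by
    have h1 : ((S' : Subgroup (X ⧸ N)).comap q).Normal := Normal.comap inferInstance q
    rwa [hS', Sylow.coe_mapSurjective, Subgroup.comap_map_eq, hq, QuotientGroup.ker_mk'] at h1
  have hfr := Sylow.normalizer_sup_eq_top' S (le_sup_left : (S : Subgroup X) ≤ (S : Subgroup X) ⊔ N)
  rw [eq_top_iff, ← hfr]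
  exact sup_le le_sup_right (sup_le (le_normalizer.trans le_sup_right) le_sup_left)

variable {G : Type*} [Group G] [Finite G] {p : ℕ} [hp : Fact p.Prime]

/-- The factorization in `G` of a subgroup of `p`-rank at most 2. -/
theorem le_sup_normalizer_of_rank_two (hG : Cfsg.IsMinSimpleOddOrder G) {L Q : Subgroup G} (hL : L ≠ ⊤)
    (hr : Cfsg.PRankLE p 2 L) (hd : p ∣ Nat.card L) (hQ : IsSylowOf p Q L) :
    L ≤ H41.pCorePrime p L ⊔ (L ⊓ normalizer (Q : Set G)) := by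
  haveI : Group.IsSolvable L := hG.2.2.2 L hL
  obtain ⟨S, rfl⟩ := exists_sylow_eq hQ
  have h := congrArg (Subgroup.map L.subtype) (sup_normalizer_eq_top
    (BG4.rank_two_structure (odd_card hG L) hd hr).2.2.2.2.2 S)
  rw [Subgroup.map_sup, ← MonoidHom.range_eq_map, range_subtype] at h
  exact h.ge.trans (sup_le_sup le_rfl (le_inf (map_subtype_le _) (le_normalizer_map _)))

theorem cj_eq_self_of_mem {g n : G} {M : Subgroup G} (h : n ∈ cj g M) :
    cj n (cj g M) = cj g M := BG11.cj_eq_of_mem h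

/-- BG 10.1 (b): transitivity. -/
theorem sigma_trans (hG : Cfsg.IsMinSimpleOddOrder G) {M : Subgroup G} (hM : IsCoatom M)
    (hp' : p ∈ Cfsg.sigma M) (X : Subgroup G) (hXp : IsPGroup p X) (hX1 : X ≠ ⊥) (g h : G)
    (hg : X ≤ cj g M) (hh : X ≤ cj h M) :
    ∃ c ∈ centralizer (X : Set G), cj c (cj g M) = cj h M := by
  induction X using WellFoundedGT.induction generalizing g h with
  | ind X ih =>
  obtain ⟨PM, hPM⟩ := exists_sylowOf p M
  have hNPM : normalizer (PM : Set G) ≤ M := normalizer_le_of_mem_sigma hp' hPM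
  -- `PM` is a Sylow subgroup of `G`
  have hPMmax : ∀ R : Subgroup G, IsPGroup p R → PM ≤ R → R = PM := by
    intro R hR hle
    by_contra hne
    obtain ⟨x, hx, hxn, hxN⟩ := H41.exists_mem_notMem_normalizer' hR (lt_of_le_of_ne hle (Ne.symm hne))
    have h1 := hPM.eq_of_le (H41.isPGroup_sup_zpowers hR hle hx) le_sup_left
      (sup_le hPM.1 (zpowers_le.mpr (hNPM hxN)))
    exact hxn (h1 ▸ mem_sup_right (mem_zpowers x))
  let PG : Sylow p G := ⟨PM, hPM.2.1, fun {Q} hQ hle => hPMmax Q hQ hle⟩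
  by_cases hmax : ∀ R : Subgroup G, IsPGroup p R → X ≤ R → R = X
  · -- `X` is a Sylow subgroup of `G`
    have hsyl : ∀ a : G, X ≤ cj a M → IsSylowOf p (cj a⁻¹ X) M := by
      intro a ha
      have hle : cj a⁻¹ X ≤ M := (cj_mono a⁻¹ ha).trans (cj_inv_cj a M).le
      obtain ⟨S, hS, hle'⟩ := exists_sylowOf_ge' (p := p) (hXp.map _ : IsPGroup p (cj a⁻¹ X)) hle
      have h1 : cj a S = X :=
        hmax _ (hS.2.1.map _) ((cj_cj_inv a X).ge.trans (cj_mono a hle'))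
      rw [← h1, cj_inv_cj]
      exact hS
    obtain ⟨m, hm, he⟩ := exists_conj_eq (hsyl h hh) (hsyl g hg)
    have hn : h * m * g⁻¹ ∈ normalizer (X : Set G) := by
      rw [← cj_eq_iff, cj_mul, cj_mul, he, cj_cj_inv]
    have hNg : normalizer (X : Set G) ≤ cj g M := by
      have h1 := normalizer_le_of_mem_sigma hp' (hsyl g hg)
      rw [← cj_normalizer] at h1
      exact le_cj_iff.mpr h1
    refine ⟨1, one_mem _, ?_⟩
    have h2 := cj_eq_self_of_mem (hNg hn)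
    rw [← cj_mul, show h * m * g⁻¹ * g = h * m by group, cj_mul, BG11.cj_eq_of_mem hm] at h2
    rw [cj_one, h2]
  push Not at hmax
  obtain ⟨R₀, hR₀, hXR₀, hR₀ne⟩ := hmax
  have hXtop : X ≠ ⊤ := H41.ne_top_of_isPGroup hG.2 hXp
  set L := normalizer (X : Set G) with hLdef
  have hLtop : L ≠ ⊤ := normalizer_ne_top' hG hX1 hXtop
  have hXL : X ≤ L := le_normalizer
  -- a larger `p`-subgroup of `L` in each conjugate containing `X`
  have hgrow : ∀ a : G, X ≤ cj a M →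
      ∃ Y : Subgroup G, X < Y ∧ IsPGroup p Y ∧ Y ≤ L ∧ Y ≤ cj a M := by
    intro a ha
    obtain ⟨S, hS, hXS⟩ := exists_sylowOf_ge' (p := p) hXp ha
    have hlt : X < S := by
      refine lt_of_le_of_ne hXS fun he => hR₀ne ?_
      obtain ⟨m, hm, hm'⟩ := exists_conj_eq hS (isSylowOf_cj hPM a)
      have h1 : Nat.card X = Nat.card (PG : Subgroup G) := by
        rw [he, ← hm', card_cj, card_cj]
      obtain ⟨T, hT⟩ := hR₀.exists_le_sylow
      have h2 : Nat.card T = Nat.card (PG : Subgroup G) := by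
        rw [T.card_eq_multiplicity, PG.card_eq_multiplicity]
      exact (eq_of_le_of_card_ge hXR₀ ((Subgroup.card_le_of_le hT).trans (h2.trans h1.symm).le)).symm
    obtain ⟨x, hx, hxn, hxN⟩ := H41.exists_mem_notMem_normalizer' hS.2.1 hlt
    refine ⟨X ⊔ zpowers x, left_lt_sup.mpr fun hle => hxn (zpowers_le.mp hle),
      H41.isPGroup_sup_zpowers hS.2.1 hlt.le hx, sup_le hXL (zpowers_le.mpr hxN),
      (sup_le hlt.le (zpowers_le.mpr hx)).trans hS.1⟩
  obtain ⟨Q, hQ⟩ := exists_sylowOf p L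
  have hXQ : X ≤ Q := by
    obtain ⟨m, hm, hle⟩ := exists_conj_le hQ hXp hXL
    rwa [cj_eq_iff.mpr hm] at hle
  obtain ⟨a, hQa⟩ : ∃ a : G, Q ≤ cj a M := by
    obtain ⟨T, hT⟩ := hQ.2.1.exists_le_sylow
    obtain ⟨a, ha⟩ := MulAction.exists_smul_eq G PG T
    refine ⟨a, hT.trans ?_⟩
    rw [← ha]
    exact cj_mono a hPM.1
  -- every conjugate containing `X` is an `L`-conjugate of `cj a M`
  have horb : ∀ b : G, X ≤ cj b M → ∃ l ∈ L, cj l (cj b M) = cj a M := by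
    intro b hb
    obtain ⟨Y, hlt, hYp, hYL, hYb⟩ := hgrow b hb
    obtain ⟨l, hl, hlY⟩ := exists_conj_le hQ hYp hYL
    have hlt' : X < cj l Y := by
      rw [← cj_eq_iff.mpr (show l ∈ normalizer (X : Set G) from hl)]
      refine lt_of_le_of_ne (cj_mono l hlt.le) fun he => hlt.ne ?_
      rw [← cj_inv_cj l X, he, cj_inv_cj]
    obtain ⟨c, hc, hc'⟩ := ih (cj l Y) hlt' (hYp.map _) (ne_bot_of_le_ne_bot hX1 hlt'.le) (l * b) a
      (cj_mul l b M ▸ cj_mono l hYb) (hlY.trans hQa)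
    refine ⟨c * l, mul_mem (H41.centralizer_le_normalizer X (centralizer_le hlt'.le hc)) hl, ?_⟩
    rw [cj_mul, ← cj_mul l b, hc']
  -- `L` acts on the orbit of `C(X)`
  have hstab : ∀ l ∈ L, ∃ c ∈ centralizer (X : Set G), cj l (cj a M) = cj c (cj a M) := by
    intro l hl
    by_cases hr : Cfsg.PRankLE p 2 L
    · have hd : p ∣ Nat.card L := by
        obtain ⟨n, hn⟩ := IsPGroup.iff_card.mp hXp
        exact (dvd_pow_self p fun h0 => hX1 (card_eq_one.mp (by rw [hn, h0, pow_zero]))).trans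
          (hn ▸ card_dvd_of_le hXL)
      have hle := le_sup_normalizer_of_rank_two hG hLtop hr hd hQ hl
      have hn : L ⊓ normalizer (Q : Set G) ≤ normalizer (H41.pCorePrime p L : Set G) :=
        inf_le_left.trans (H41.le_normalizer_pCorePrime L)
      obtain ⟨o, ho, n, hnN, rfl⟩ := (Coprime.mem_sup_iff hn).1 hle
      have hoC : o ∈ centralizer (X : Set G) := by
        have hoL : o ∈ L := H41.pCorePrime_le L ho
        intro x hx
        have h1 : o * x * o⁻¹ * x⁻¹ ∈ H41.pCorePrime p L ⊓ X := by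
          refine ⟨?_, X.mul_mem (Coprime.conj_mem hoL hx) (X.inv_mem hx)⟩
          rw [show o * x * o⁻¹ * x⁻¹ = o * (x * o⁻¹ * x⁻¹) by group]
          exact mul_mem ho (Coprime.conj_mem (H41.le_normalizer_pCorePrime L (hXL hx)) (inv_mem ho))
        rw [inf_comm, Cores.disjoint_of_isPGroup_of_coprime hXp (H41.coprime_pCorePrime L), mem_bot,
          mul_inv_eq_one, mul_inv_eq_iff_eq_mul] at h1
        exact h1.symm
      have hQn : Q ≤ cj (n * a) M := by
        rw [cj_mul]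
        exact (cj_eq_iff.mpr hnN.2).ge.trans (cj_mono n hQa)
      by_cases hXQ' : Q = X
      · obtain ⟨Y, hlt, hYp, hYL, -⟩ := hgrow a (hXQ.trans hQa)
        exact absurd (hQ.eq_of_le hYp (hXQ'.le.trans hlt.le) hYL) (hXQ' ▸ hlt.ne)
      obtain ⟨c, hc, hc'⟩ := ih Q (lt_of_le_of_ne hXQ (Ne.symm hXQ')) hQ.2.1
        (ne_bot_of_le_ne_bot hX1 hXQ) a (n * a) hQa hQn
      refine ⟨o * c, mul_mem hoC (centralizer_le hXQ hc), ?_⟩
      rw [cj_mul o n, ← cj_mul n a, ← hc', ← cj_mul]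
    · refine ⟨1, one_mem _, ?_⟩
      rw [cj_one]
      refine cj_eq_self_of_mem ?_
      obtain ⟨E, hEL, hEc, hEe, hE⟩ := H41.exists_elementary_of_not_pRankLE hr
      have hEp : IsPGroup p E := IsPGroup.of_card hE
      obtain ⟨m, hm, hmE⟩ := exists_conj_le hQ hEp hEL
      have hU : Cfsg.InUniqueMaximal (cj m E) :=
        H41.inUniqueMaximal_map_equiv (MulAut.conj m) (H41.inUniqueMaximal_elementary hG hEc hEe hE.ge)
      exact BG11.le_of_inUniqueMaximal hU (coatom_cj hM a) (hmE.trans hQa) hLtop (hmE.trans hQ.1) hl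
  obtain ⟨l₁, hl₁, e₁⟩ := horb g hg
  obtain ⟨l₂, hl₂, e₂⟩ := horb h hh
  obtain ⟨c, hc, hc'⟩ := hstab (l₂⁻¹ * l₁) (mul_mem (inv_mem hl₂) hl₁)
  obtain ⟨c₁, hc₁, hc₁'⟩ := hstab l₁⁻¹ (inv_mem hl₁)
  obtain ⟨c₂, hc₂, hc₂'⟩ := hstab l₂⁻¹ (inv_mem hl₂)
  refine ⟨c₂ * c₁⁻¹, mul_mem hc₂ (inv_mem hc₁), ?_⟩
  rw [← e₁, cj_inv_cj] at hc₁'
  rw [← e₂, cj_inv_cj] at hc₂'
  rw [e₁] at hc₁'
  rw [e₂] at hc₂'
  rw [hc₁', hc₂', cj_mul, cj_inv_cj]

/-- BG 10.1 (a), (c). -/
theorem sigma_trans' (hG : Cfsg.IsMinSimpleOddOrder G) {M : Subgroup G} (hM : IsCoatom M)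
    (hp' : p ∈ Cfsg.sigma M) {X : Subgroup G} (hXp : IsPGroup p X) (hX1 : X ≠ ⊥) (hXM : X ≤ M) :
    (∀ g : G, cj g X ≤ M → ∃ m ∈ M, ∃ c ∈ centralizer (X : Set G), g = m * c) ∧
      normalizer (X : Set G) = (M ⊓ normalizer (X : Set G)) ⊔ centralizer (X : Set G) := by
  have key : ∀ g : G, cj g X ≤ M → ∃ m ∈ M, ∃ c ∈ centralizer (X : Set G), g = m * c := by
    intro g hg
    have h1 : X ≤ cj g⁻¹ M := le_cj_iff.mpr (by rwa [inv_inv])
    obtain ⟨c, hc, hc'⟩ := sigma_trans hG hM hp' X hXp hX1 g⁻¹ 1 h1 (by rwa [cj_one])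
    rw [← cj_mul, cj_one] at hc'
    refine ⟨g * c⁻¹, ?_, c, hc, by group⟩
    have h2 := M.inv_mem (mem_of_cj_eq hG hM hc')
    rwa [mul_inv_rev, inv_inv] at h2
  refine ⟨key, le_antisymm (fun g hg => ?_) (sup_le inf_le_right (H41.centralizer_le_normalizer _))⟩
  obtain ⟨m, hm, c, hc, rfl⟩ := key g ((cj_eq_iff.mpr hg).le.trans hXM)
  refine mul_mem (mem_sup_left ⟨hm, ?_⟩) (mem_sup_right hc)
  have h3 := mul_mem hg (inv_mem (H41.centralizer_le_normalizer _ hc))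
  rwa [mul_inv_cancel_right] at h3

end Cfsg.Agent.OddOrder.BG10
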