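import Cfsg.Agent.OddOrder.BG10.Cores
import Cfsg.Agent.S0120

/-!
BG 10.3 - 10.5: uniqueness from `M_α`, and the primes outside `σ(M)` of rank 2.
-/

set_option autoImplicit false

namespace Cfsg.Agent.OddOrder.BG10

open Subgroup H40

variable {G : Type*} [Group G] [Finite G]

omit [Finite G] in
theorem not_rankLE_one_of_elementary {p : ℕ} (hp : p.Prime) {X E : Subgroup G} (hEX : E ≤ X)
    (hc : IsMulCommutative E) (he : ∀ a ∈ E, a ^ p = 1) (hcard : p ^ 2 ≤ Nat.card E) :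
    ¬ Cfsg.RankLE 1 X :=
  H41.not_rankLE hp hEX hc he hcard

/-- The join of an elementary abelian subgroup with a centralizing element of order `p`. -/
theorem elementary_sup_zpowers {p : ℕ} {E : Subgroup G} {x : G} (hc : IsMulCommutative E)
    (he : ∀ a ∈ E, a ^ p = 1) (hx : x ∈ centralizer (E : Set G)) (hxp : x ^ p = 1) :
    IsMulCommutative ↥(E ⊔ zpowers x) ∧ ∀ a ∈ E ⊔ zpowers x, a ^ p = 1 := by
  have hn : zpowers x ≤ normalizer (E : Set G) :=
    zpowers_le.mpr (H41.centralizer_le_normalizer E hx)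
  have hzc : ∀ c ∈ zpowers x, ∀ a ∈ E, a * c = c * a := fun c hc' a ha =>
    mem_centralizer_iff.mp ((zpowers_le.mpr hx) hc') a ha
  have hxe : ∀ c ∈ zpowers x, c ^ p = 1 := (BG11.elemAb_zpowers hxp).2
  refine ⟨PGroups.isMulCommutative_of_comm fun a ha b hb => ?_, fun a ha => ?_⟩
  · obtain ⟨u, hu, v, hv, rfl⟩ := (Coprime.mem_sup_iff hn).1 ha
    obtain ⟨u', hu', v', hv', rfl⟩ := (Coprime.mem_sup_iff hn).1 hb
    exact ((show Commute u u' from PGroups.comm_of_isMulCommutative hc hu hu').mul_right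
      (hzc v' hv' u hu)).mul_left ((show Commute v u' from (hzc v hv u' hu').symm).mul_right
      (PGroups.comm_of_isMulCommutative (BG11.elemAb_zpowers hxp).1 hv hv'))
  · obtain ⟨u, hu, v, hv, rfl⟩ := (Coprime.mem_sup_iff hn).1 ha
    rw [(show Commute u v from hzc v hv u hu).mul_pow, he u hu, hxe v hv, one_mul]

/-- BG 10.3. -/
theorem inUniqueMaximal_of_alphaCore (hG : Cfsg.IsMinSimpleOddOrder G) {M : Subgroup G} (hM : IsCoatom M)
    {X : Subgroup G} (hXM : X ≤ M) (hXα : ∀ p : ℕ, p.Prime → p ∣ Nat.card X → p ∉ Cfsg.alpha M)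
    (hr : ¬ Cfsg.RankLE 1 ↥(Cfsg.alphaCore M ⊓ centralizer (X : Set G))) :
    Cfsg.InUniqueMaximal (M ⊓ centralizer (X : Set G)) := by
  set Mα := Cfsg.alphaCore M with hMα
  have hMαM : Mα ≤ M := map_subtype_le _
  have hne : M ⊓ centralizer (X : Set G) ≠ ⊤ := fun h => hM.1 (top_le_iff.mp (h ▸ inf_le_left))
  simp only [Cfsg.RankLE, not_forall] at hr
  obtain ⟨q, hq, hr⟩ := hr
  haveI := Fact.mk hq
  obtain ⟨E, hEle, hEc, hEe, hE⟩ := H41.exists_elementary_of_not_pRankLE hr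
  have hEMα : E ≤ Mα := hEle.trans inf_le_left
  have hEX : E ≤ centralizer (X : Set G) := hEle.trans inf_le_right
  have hEle' : E ≤ M ⊓ centralizer (X : Set G) := le_inf (hEMα.trans hMαM) hEX
  have hqα : q ∈ Cfsg.alpha M := OddOrder.piCoreOf_isPiNumber (Cfsg.alpha M) M q hq
    ((dvd_pow_self q (by norm_num : 1 + 1 ≠ 0)).trans (hE ▸ card_dvd_of_le hEMα))
  have hcop : (Nat.card X).Coprime (Nat.card Mα) := Nat.coprime_of_dvd fun r hr' h1 h2 =>
    hXα r hr' h1 (OddOrder.piCoreOf_isPiNumber (Cfsg.alpha M) M r hr' h2)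
  have hXn : X ≤ normalizer (Mα : Set G) := hXM.trans (OddOrder.le_normalizer_piCoreOf _ M)
  have hEq : IsPGroup q E := IsPGroup.of_card hE
  obtain ⟨Q₀, hEQ, hXQ⟩ := Coprime.exists_invariant_sylow_ge hXn hcop
    (Or.inr (OddOrder.isSolvable_of_le_max hG hM hMαM)) q hEMα hEq
    ((le_centralizer_iff.mp hEX).trans (H41.centralizer_le_normalizer E))
  set Q := (Q₀ : Subgroup Mα).map Mα.subtype with hQ
  have hQp : IsPGroup q Q := Q₀.isPGroup'.map _
  have hQMα : Q ≤ Mα := map_subtype_le _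
  -- `Q` has rank at least 3
  have hQ3 : ¬ Cfsg.PRankLE q 2 Q := by
    intro h
    obtain ⟨P, hP, hQP⟩ := BG11.exists_sylowOf_ge' (p := q) hQp (hQMα.trans hMαM)
    obtain ⟨PS, hPS⟩ := BG11.exists_sylow_eq hP
    have hdvd : Nat.card P ∣ Nat.card Mα := by
      have h1 : Nat.card P ∣ Nat.card Mα * Mα.relIndex M := by
        rw [show Nat.card Mα * Mα.relIndex M = Nat.card M by
          rw [← relIndex_bot_left Mα, relIndex_mul_relIndex _ _ _ bot_le hMαM, relIndex_bot_left]]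
        exact card_dvd_of_le hP.1
      refine Nat.Coprime.dvd_of_dvd_mul_right ?_ h1
      obtain ⟨n, hn⟩ := IsPGroup.iff_card.mp hP.2.1
      rw [hn]
      exact ((hq.coprime_iff_not_dvd).mpr ((alphaCore_hall hG hM).1.2.2 q hq hqα)).pow_left n
    have hPQ : Nat.card P ≤ Nat.card Q := by
      rw [hQ, Cores.card_map_eq _ Mα.subtype_injective, Q₀.card_eq_multiplicity]
      exact H41.le_rpart hP.2.1 hdvd
    refine hqα.2 (OddOrder.pRankLE_of_sylow PS ?_)
    refine BG11.pRankLE_congr ((PS : Subgroup M).equivMapOfInjective M.subtype M.subtype_injective).symm ?_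
    rw [hPS, ← eq_of_le_of_card_ge hQP hPQ]
    exact h
  by_cases hCE : Cfsg.PRankLE q 2 ↥(Q ⊓ centralizer (E : Set G))
  · -- `X` centralizes `Q`
    set C := Q ⊓ centralizer (E : Set G) with hC
    have hCp : IsPGroup q C := hQp.to_le inf_le_left
    have hEC : E ≤ C := le_inf hEQ fun a ha b hb => PGroups.comm_of_isMulCommutative hEc hb ha
    have hfix : ∀ x ∈ C, x ^ q = 1 → x ∈ E := by
      intro x hx hxq
      obtain ⟨h1, h2⟩ := elementary_sup_zpowers hEc hEe hx.2 hxq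
      have h3 := BG11.card_le_of_pRankLE hCE (sup_le hEC (zpowers_le.mpr hx)) ⟨h1, h2⟩
      rw [eq_of_le_of_card_ge le_sup_left (h3.trans hE.ge)]
      exact mem_sup_right (mem_zpowers x)
    have hXC : X ≤ normalizer (C : Set G) := H41.le_normalizer_inf hXQ
      ((le_centralizer_iff.mp hEX).trans (fun c hc => H41.le_normalizer_centralizer
        (B := zpowers c) (H := E) (zpowers_le.mpr (H41.centralizer_le_normalizer E hc)) (mem_zpowers c)))
    have hXcop : (Nat.card X).Coprime q := by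
      rw [Nat.coprime_comm, hq.coprime_iff_not_dvd]
      exact fun hd => hXα q hq hd hqα
    have hq2 : q ≠ 2 := OddOrder.ne_two_of_dvd hG (X := E)
      (hE ▸ dvd_pow_self q (by norm_num : 1 + 1 ≠ 0))
    have hXCc : X ≤ centralizer (C : Set G) := by
      intro a ha
      let φ : X →* MulAut C := (normalizerMonoidHom C).comp (inclusion hXC)
      have h1 : φ ⟨a, ha⟩ = 1 := by
        refine Cfsg.Agent.S0120.result hq2 hCp _ ((hXcop.coprime_dvd_left
          ((orderOf_map_dvd φ _).trans (orderOf_dvd_natCard _)))) fun y hy => Subtype.ext ?_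
        show a * (y : G) * a⁻¹ = y
        have hyE : (y : G) ∈ E := hfix y y.2 (by simpa using congrArg Subtype.val hy)
        rw [mem_centralizer_iff.mp (hEX hyE) a ha, mul_inv_cancel_right]
      intro y hy
      have h2 : a * y * a⁻¹ = y :=
        congrArg (fun f : MulAut C => ((f ⟨y, hy⟩ : C) : G)) h1
      exact (mul_inv_eq_iff_eq_mul.mp h2).symm
    have hXQc : X ≤ centralizer (Q : Set G) :=
      Coprime.thompson_AxB hEq hXcop hEX Q hQp (hEQ.trans le_normalizer) hXQ (le_centralizer_iff.mp hXCc)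
    exact H41.inUniqueMaximal_of_le (H41.inUniqueMaximal_of_not_pRankLE hG
      (H41.ne_top_of_isPGroup hG.2 hQp) hQ3) (le_inf (hQMα.trans hMαM) (le_centralizer_iff.mp hXQc)) hne
  · refine H41.inUniqueMaximal_of_le ?_ hEle' hne
    refine H41.uniqueness_theorem hG (H41.ne_top_of_isPGroup hG.2 hEq)
      (not_rankLE_one_of_elementary hq le_rfl hEc hEe hE.ge) (Or.inr fun h => hCE ?_)
    exact BG11.pRankLE_of_le inf_le_right (h q hq)

omit [Finite G] in
theorem isZGroup_of_rankLE_one [Finite G] (hG : Cfsg.IsMinSimpleOddOrder G) {H : Subgroup G}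
    (h : Cfsg.RankLE 1 H) : IsZGroup H := by
  refine ⟨fun q hq P => ?_⟩
  haveI := Fact.mk hq
  by_contra hc
  have hq2 : q ≠ 2 := by
    intro h2
    have h1 : q ∣ Nat.card H := by
      by_contra hd
      refine hc ?_
      have h0 : (P : Subgroup H) = ⊥ := by
        rw [← Subgroup.card_eq_one, P.card_eq_multiplicity, Nat.factorization_eq_zero_of_not_dvd hd,
          pow_zero]
      rw [h0]
      infer_instance
    exact OddOrder.ne_two_of_dvd hG h1 h2
  obtain ⟨E, hEP, hEc, hEe, hE⟩ := H41.exists_elementary_sq_of_not_isCyclic hq2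
    (P.isPGroup'.map H.subtype) (fun hcyc => hc
      ((MulEquiv.isCyclic ((P : Subgroup H).equivMapOfInjective H.subtype H.subtype_injective)).mpr hcyc))
  exact not_rankLE_one_of_elementary hq (hEP.trans (map_subtype_le _)) hEc hEe hE.ge h

/-- BG 10.4. -/
theorem exists_central_element (hG : Cfsg.IsMinSimpleOddOrder G) {M : Subgroup G} (hM : IsCoatom M)
    {p : ℕ} [Fact p.Prime] (hpM : p ∣ Nat.card M) (hp : p ∉ Cfsg.sigma M) (P : Sylow p M) :
    ∃ x : G, x ∈ ((Subgroup.center ↥(P : Subgroup M)).map (P : Subgroup M).subtype).map M.subtype ∧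
      orderOf x = p ∧
      IsZGroup ↥(Cfsg.alphaCore M ⊓ centralizer ({x} : Set G)) ∧
      ¬ (centralizer ({x} : Set G) ≤ M ∧
        ∀ L : Subgroup G, IsCoatom L → centralizer ({x} : Set G) ≤ L → L = M) := by
  have hpr : p.Prime := Fact.out
  set Z := ((Subgroup.center ↥(P : Subgroup M)).map (P : Subgroup M).subtype).map M.subtype with hZ
  set P' := (P : Subgroup M).map M.subtype with hP'
  have hZP : Z ≤ P' := Subgroup.map_mono (map_subtype_le _)
  have hZc : ∀ z ∈ Z, ∀ y ∈ P', z * y = y * z := by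
    rintro _ ⟨_, ⟨z, hz, rfl⟩, rfl⟩ _ ⟨y, hy, rfl⟩
    exact congrArg (fun t : (P : Subgroup M) => ((t : M) : G)) (mem_center_iff.mp hz ⟨y, hy⟩).symm
  -- the main point
  obtain ⟨x, hxZ, hxo, hxu⟩ : ∃ x ∈ Z, orderOf x = p ∧ ¬ (centralizer ({x} : Set G) ≤ M ∧
      ∀ L : Subgroup G, IsCoatom L → centralizer ({x} : Set G) ≤ L → L = M) := by
    by_contra hcon
    push Not at hcon
    have hP0 : (P : Subgroup M) ≠ ⊥ := P.ne_bot_of_dvd_card hpM
    haveI : Nontrivial (P : Subgroup M) := (Subgroup.nontrivial_iff_ne_bot _).2 hP0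
    haveI := P.isPGroup'.center_nontrivial
    obtain ⟨z, hz⟩ := exists_prime_orderOf_dvd_card' (G := center (P : Subgroup M)) p (by
      obtain ⟨n, hn⟩ := IsPGroup.iff_card.mp (P.isPGroup'.to_subgroup (center (P : Subgroup M)))
      have h1 := Finite.one_lt_card (α := center (P : Subgroup M))
      rw [hn] at h1 ⊢
      exact dvd_pow_self p fun h => by rw [h, pow_zero] at h1; exact lt_irrefl 1 h1)
    set x := (((z : (P : Subgroup M)) : M) : G) with hx
    have hxo : orderOf x = p := by rw [hx, orderOf_coe, orderOf_coe, orderOf_coe, hz]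
    have hxZ : x ∈ Z := ⟨_, ⟨z, z.2, rfl⟩, rfl⟩
    obtain ⟨g, hg, hgM⟩ := SetLike.not_le_iff_exists.mp
      (BG11.not_normalizer_le hp hpM (isSylowOf_map P))
    refine hgM ?_
    have hZn : g * x * g⁻¹ ∈ Z := by
      have hxP : g * x * g⁻¹ ∈ P' := Coprime.conj_mem hg (hZP hxZ)
      obtain ⟨y, hy, hye⟩ := hxP
      refine ⟨y, ⟨⟨y, hy⟩, mem_center_iff.mpr fun t => Subtype.ext (Subtype.ext ?_), rfl⟩, hye⟩
      show ((t : M) : G) * (y : G) = (y : G) * ((t : M) : G)
      change (y : G) = g * x * g⁻¹ at hye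
      rw [hye]
      have ht : g⁻¹ * ((t : M) : G) * g ∈ P' :=
        (mem_normalizer_iff''.1 hg _).1 ⟨_, t.2, rfl⟩
      calc ((t : M) : G) * (g * x * g⁻¹) = g * ((g⁻¹ * ((t : M) : G) * g) * x) * g⁻¹ := by group
        _ = g * (x * (g⁻¹ * ((t : M) : G) * g)) * g⁻¹ := by rw [hZc x hxZ _ ht]
        _ = g * x * g⁻¹ * ((t : M) : G) := by group
    have ho : orderOf (g * x * g⁻¹) = p :=
      ((MulAut.conj g).orderOf_eq x).trans hxo
    obtain ⟨h1, -⟩ := hcon x hxZ hxo
    obtain ⟨-, h2⟩ := hcon _ hZn ho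
    have h3 : centralizer ({g * x * g⁻¹} : Set G) ≤ cj g M := by
      intro c hc
      refine mem_cj.mpr (h1 (mem_centralizer_singleton_iff.mpr ?_))
      have hc' := mem_centralizer_singleton_iff.mp hc
      calc g⁻¹ * c * g * x = g⁻¹ * (c * (g * x * g⁻¹)) * g := by group
        _ = g⁻¹ * (g * x * g⁻¹ * c) * g := by rw [hc']
        _ = x * (g⁻¹ * c * g) := by group
    exact BG11.mem_of_cj_eq hG hM (h2 _ (BG11.coatom_cj hM g) h3)
  refine ⟨x, hxZ, hxo, isZGroup_of_rankLE_one hG ?_, hxu⟩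
  by_contra hr
  refine hxu ?_
  have hxM : x ∈ M := map_subtype_le _ (hZP hxZ)
  have hcc : centralizer (zpowers x : Set G) = centralizer ({x} : Set G) := by
    refine le_antisymm (centralizer_le (by simp)) fun c hc y hy => ?_
    obtain ⟨k, rfl⟩ := mem_zpowers_iff.mp hy
    exact (Commute.zpow_left (show Commute x c from (mem_centralizer_singleton_iff.mp hc).symm) k).eq
  have hU := inUniqueMaximal_of_alphaCore hG hM (X := zpowers x) (zpowers_le.mpr hxM) (fun q hq hd => by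
    rw [Nat.card_zpowers, hxo, Nat.prime_dvd_prime_iff_eq hq hpr] at hd
    subst hd
    exact fun h => hp (alpha_subset_sigma hG hM h)) (by rwa [hcc])
  rw [hcc] at hU
  have htop : centralizer ({x} : Set G) ≠ ⊤ := H41.centralizer_singleton_ne_top hG hM.1 hxM
    fun h => by rw [h, orderOf_one] at hxo; exact hpr.one_lt.ne hxo
  exact ⟨BG11.le_of_inUniqueMaximal hU hM inf_le_left htop inf_le_right, fun L hL hle =>
    BG11.eq_of_inUniqueMaximal hU hM inf_le_left hL (inf_le_right.trans hle)⟩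

/-- BG 10.5, maximality. -/
theorem eq_of_elementary_ge (hG : Cfsg.IsMinSimpleOddOrder G) {M : Subgroup G} (hM : IsCoatom M)
    {p : ℕ} [Fact p.Prime] (hp : p ∉ Cfsg.sigma M) {A B : Subgroup G} (hAM : A ≤ M)
    (hA : Cfsg.IsElementaryAbelian p A) (hA2 : Nat.card A = p ^ 2)
    (hB : Cfsg.IsElementaryAbelian p B) (hAB : A ≤ B) : B = A := by
  have hpr : p.Prime := Fact.out
  by_contra hne
  have hAp : IsPGroup p A := IsPGroup.of_card hA2
  have hpM : p ∣ Nat.card M := (dvd_pow_self p two_ne_zero).trans (hA2 ▸ card_dvd_of_le hAM)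
  have hB3 : p ^ 3 ≤ Nat.card B := by
    obtain ⟨n, hn⟩ := IsPGroup.iff_card.mp
      (fun x => ⟨1, Subtype.ext (by simpa using hB.2 x x.2)⟩ : IsPGroup p B)
    rw [hn]
    refine Nat.pow_le_pow_right hpr.pos ?_
    by_contra h
    exact hne (eq_of_le_of_card_ge hAB (by
      rw [hn, hA2]; exact Nat.pow_le_pow_right hpr.pos (by omega))).symm
  have hAU : Cfsg.InUniqueMaximal A := H41.uniqueness_theorem hG (H41.ne_top_of_isPGroup hG.2 hAp)
    (not_rankLE_one_of_elementary hpr le_rfl hA.1 hA.2 hA2.ge)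
    (Or.inr (H41.not_rankLE hpr (E := B)
      (fun b hb a ha => PGroups.comm_of_isMulCommutative hB.1 (hAB ha) hb) hB.1 hB.2 hB3))
  obtain ⟨P, hP, hAP⟩ := BG11.exists_sylowOf_ge' (p := p) hAp hAM
  exact BG11.not_normalizer_le hp hpM hP (BG11.le_of_inUniqueMaximal hAU hM hAM
    (BG11.normalizer_ne_top' hG (BG11.sylowOf_ne_bot hP hpM) (H41.ne_top_of_isPGroup hG.2 hP.2.1))
    (hAP.trans le_normalizer))

/-- BG 10.5. -/
theorem rank_two_of_not_sigma (hG : Cfsg.IsMinSimpleOddOrder G) {M : Subgroup G} (hM : IsCoatom M)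
    {p : ℕ} [Fact p.Prime] (hp : p ∉ Cfsg.sigma M) (hr1 : ¬ Cfsg.PRankLE p 1 M) :
    ¬ Cfsg.IsIdealPrime p G ∧ ∀ A : Subgroup G, A ≤ M → Cfsg.IsElementaryAbelian p A →
      Nat.card A = p ^ 2 → ∀ B : Subgroup G, Cfsg.IsElementaryAbelian p B → A ≤ B → B = A := by
  refine ⟨fun hid => ?_, fun A hAM hA hA2 B hB hAB => eq_of_elementary_ge hG hM hp hAM hA hA2 hB hAB⟩
  obtain ⟨A, hAM, hAc, hAe, hA⟩ := H41.exists_elementary_of_not_pRankLE hr1
  obtain ⟨P, hAP⟩ := (IsPGroup.of_card hA : IsPGroup p A).exists_le_sylow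
  obtain ⟨B, -, hB, hlt⟩ := hid.2.2 P A hAP ⟨hAc, hAe⟩ hA
  exact hlt.ne (eq_of_elementary_ge hG hM hp hAM ⟨hAc, hAe⟩ hA hB hlt.le).symm

/-- BG 10.6. -/
theorem rank_two_of_normalizer_le (hG : Cfsg.IsMinSimpleOddOrder G) {M : Subgroup G} (hM : IsCoatom M)
    {p : ℕ} [Fact p.Prime] (hp : p ∉ Cfsg.sigma M) {X : Subgroup G} (hX : Nat.card X = p)
    (hNX : normalizer (X : Set G) ≤ M) :
    (Cfsg.PRankLE p 2 M ∧ ¬ Cfsg.PRankLE p 1 M) ∧ ¬ Cfsg.IsIdealPrime p G ∧
      ∃ A : Subgroup G, Cfsg.IsElementaryAbelian p A ∧ Nat.card A = p ^ 2 ∧ X ≤ A := by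
  have hpr : p.Prime := Fact.out
  have hXM : X ≤ M := le_normalizer.trans hNX
  have hXp : IsPGroup p X := IsPGroup.of_card (n := 1) (by rw [hX, pow_one])
  have hpM : p ∣ Nat.card M := hX ▸ card_dvd_of_le hXM
  have hp2 : p ≠ 2 := OddOrder.ne_two_of_dvd hG hpM
  have hXe : ∀ a ∈ X, a ^ p = 1 := fun a ha => by
    obtain ⟨b, rfl⟩ : ∃ b : X, (b : G) = a := ⟨⟨a, ha⟩, rfl⟩
    rw [← SubmonoidClass.coe_pow, ← hX, pow_card_eq_one', OneMemClass.coe_one]
  haveI hXcyc : IsCyclic X := isCyclic_of_prime_card hX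
  have hXc : IsMulCommutative X := PGroups.isMulCommutative_of_comm fun a ha b hb =>
    congrArg Subtype.val (IsCyclic.commutative.is_comm.comm (⟨a, ha⟩ : X) ⟨b, hb⟩)
  have hr2 : Cfsg.PRankLE p 2 M :=
    pRankLE_two_of_not_alpha hpr fun h => hp (alpha_subset_sigma hG hM h)
  obtain ⟨P, hP, hXP⟩ := BG11.exists_sylowOf_ge' (p := p) hXp hXM
  have hr1 : ¬ Cfsg.PRankLE p 1 M := by
    intro h1
    refine BG11.not_normalizer_le hp hpM hP ?_
    have hcyc : IsCyclic P := by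
      by_contra hc
      obtain ⟨E, hEP, hEc, hEe, hE⟩ := H41.exists_elementary_sq_of_not_isCyclic hp2 hP.2.1 hc
      exact H41.not_pRankLE hpr.one_lt (hEP.trans hP.1) hEc hEe hE.ge h1
    intro g hg
    refine hNX (Coprime.mem_normalizer_of_map_conj ?_)
    have hle : cj g X ≤ P := (Subgroup.map_mono hXP).trans_eq (cj_eq_iff.mpr hg)
    obtain ⟨x, hx, hx1⟩ : ∃ x ∈ cj g X, x ≠ 1 := by
      refine H41.exists_ne_one fun h => ?_
      have h2 := congrArg (fun T : Subgroup G => Nat.card T) h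
      simp only [card_cj, hX, card_bot] at h2
      exact hpr.one_lt.ne' h2
    obtain ⟨y, hy, rfl⟩ := hx
    have hc : ∀ u ∈ P, ∀ v ∈ P, u * v = v * u := fun u hu v hv =>
      congrArg Subtype.val (IsCyclic.commutative.is_comm.comm (⟨u, hu⟩ : P) ⟨v, hv⟩)
    set y' := (MulAut.conj g).toMonoidHom y with hy'
    obtain ⟨h3, h4⟩ := elementary_sup_zpowers hXc hXe
      (fun a ha => hc a (hXP ha) y' (hle ⟨y, hy, rfl⟩)) (by rw [hy', ← map_pow, hXe y hy, map_one])
    have h5 := BG11.card_le_of_pRankLE h1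
      (sup_le hXM (zpowers_le.mpr (hP.1 (hle ⟨y, hy, rfl⟩)))) ⟨h3, h4⟩
    rw [pow_one] at h5
    have h6 : X = X ⊔ zpowers y' := eq_of_le_of_card_ge le_sup_left (h5.trans hX.ge)
    have h7 : zpowers y' = X := by
      refine eq_of_le_of_card_ge (le_sup_right.trans h6.ge) ?_
      rw [hX, Nat.card_zpowers, orderOf_eq_prime (by rw [hy', ← map_pow, hXe y hy, map_one]) hx1]
    have h8 : zpowers y = X := by
      refine eq_of_le_of_card_ge (zpowers_le.mpr hy) ?_
      rw [hX, Nat.card_zpowers, orderOf_eq_prime (hXe y hy) fun h => hx1 (by rw [hy', h, map_one])]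
    rw [← h8, MonoidHom.map_zpowers, ← hy', h7, h8]
  refine ⟨⟨hr2, hr1⟩, (rank_two_of_not_sigma hG hM hp hr1).1, ?_⟩
  obtain ⟨E, hEM, hEc, hEe, hE⟩ := H41.exists_elementary_of_not_pRankLE hr1
  obtain ⟨m, hm, hEP⟩ := BG11.exists_conj_le hP (IsPGroup.of_card hE) hEM
  have hE' := BG11.elemAb_cj (show Cfsg.IsElementaryAbelian p E from ⟨hEc, hEe⟩) m
  obtain ⟨F, hFn, hFc, hFe, hF⟩ := H41.exists_normal_elementary_sq hp2 hP.2.1
    (E := (cj m E).subgroupOf P)
    (PGroups.isMulCommutative_of_comm fun a ha b hb =>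
      Subtype.ext (PGroups.comm_of_isMulCommutative hE'.1 ha hb))
    (fun a ha => Subtype.ext (by simpa using hE'.2 (a : G) ha))
    (by rw [Nat.card_congr (subgroupOfEquivOfLe hEP).toEquiv, card_cj, hE])
  have hF'c : Nat.card (F.map P.subtype) = p ^ 2 := by rw [Cores.card_map_eq _ P.subtype_injective, hF]
  have hF'e : Cfsg.IsElementaryAbelian p (F.map P.subtype) := by
    refine ⟨PGroups.isMulCommutative_of_comm ?_, ?_⟩
    · rintro _ ⟨a, ha, rfl⟩ _ ⟨b, hb, rfl⟩
      rw [← map_mul, ← map_mul, PGroups.comm_of_isMulCommutative hFc ha hb]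
    · rintro _ ⟨a, ha, rfl⟩
      rw [← map_pow, hFe a ha, map_one]
  by_cases hXF : X ≤ F.map P.subtype
  · exact ⟨_, hF'e, hF'c, hXF⟩
  have hF0 : F ≠ ⊥ := fun h => by
    rw [h, card_bot] at hF
    exact (Nat.one_lt_pow two_ne_zero hpr.one_lt).ne hF
  obtain ⟨z, hzF, hzc, hzo⟩ := PGroups.exists_mem_center_orderOf_eq hP.2.1 F hF0
  obtain ⟨h3, h4⟩ := elementary_sup_zpowers (x := (z : G)) hXc hXe
    (fun a ha => congrArg Subtype.val (mem_center_iff.mp hzc ⟨a, hXP ha⟩))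
    (by rw [← hzo, ← orderOf_coe, pow_orderOf_eq_one])
  refine ⟨X ⊔ zpowers (z : G), ⟨h3, h4⟩, ?_, le_sup_left⟩
  have hd : X ⊓ zpowers (z : G) = ⊥ := by
    haveI : Fact (Nat.card X).Prime := ⟨hX.symm ▸ hpr⟩
    rcases ((zpowers (z : G)).subgroupOf X).eq_bot_or_eq_top_of_prime_card with h0 | h0
    · rw [subgroupOf_eq_bot, disjoint_iff, inf_comm] at h0; exact h0
    · exact absurd ((subgroupOf_eq_top.1 h0).trans (zpowers_le.mpr (mem_map_of_mem P.subtype hzF : (z : G) ∈ F.map P.subtype))) hXF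
  rw [H41.card_sup_of_commute _ _ (fun a ha b hb => ?_) hd, hX, Nat.card_zpowers, orderOf_coe, hzo,
    pow_two]
  obtain ⟨k, rfl⟩ := mem_zpowers_iff.mp hb
  exact (Commute.zpow_right (congrArg Subtype.val (mem_center_iff.mp hzc ⟨a, hXP ha⟩) :
    Commute a (z : G)) k).eq

end Cfsg.Agent.OddOrder.BG10
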